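import Cfsg.Agent.H92.TorExp
import Cfsg.Agent.H365.Zsig
import Cfsg.Agent.H489.Cyc.ONDeg
import Cfsg.Agent.H420.PG.CharTwo
import Cfsg.Agent.ChevalleyStructure.StBasic
import Cfsg.Agent.ChevalleyStructure.StTheta
import Mathlib
import Cfsg.Agent.H420.PG.Tw
import Cfsg.Agent.Nodes.KindE
import Mathlib.GroupTheory.NoncommPiCoprod
import Cfsg.Agent.H320.Kill.Pair
import Cfsg.Agent.ChevalleyStructure.StCenter
import Cfsg.Agent.S1077
import Cfsg.Agent.S1097
import Cfsg.Agent.S1032
import Cfsg.Agent.S1033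
import Cfsg.Agent.S1054
import Cfsg.Agent.S1061
import Cfsg.Agent.S1067
import Cfsg.Agent.S1071
import Cfsg.Agent.H65.MultE
import Cfsg.Agent.ChevFast.E7
import Cfsg.Agent.H904.E7Main
import Cfsg.Agent.FastGrp
import Cfsg.Agent.Prune
set_option linter.all false

section
prune_inst 0x7f00000000000000000000000000000000000000000000000000000000000000000000000000000000000000000000000000000000000000000000000000000000000000000000000000000000000000003fffffffffdfffffffffffffffffbeffbdffffffff

-- part: H501/TwoCyc/Ord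
section
set_option linter.all false
open scoped Cfsg.Agent.FastGrp

/-!
# Orders of the automorphisms of `D.group F` (helper501, for S3507)

* `orderOf_le_mul` : `|g| ≤ A B`, if `p'`-elements have order at most `A` and `p`-elements order at most `B`;
* `mo` : `Mo T (c * (A * B))`, if `|Out T| ≤ c`;
* `semisimple_le` : `|s| ≤ (q + 1) ^ l` for `s ∈ D.group F` of order prime to the characteristic;
* `semisimple_le_E6_2` : `|s| ≤ 217` for `E₆(2)`;
* `exists_pow` : some power of `p` is at least `h` and at most `h p`.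
-/

set_option autoImplicit false

namespace Cfsg.Agent.H501.TwoCyc.Ord

open Cfsg Cfsg.Lie Cfsg.Agent.H384.Cyc Polynomial Cfsg.Agent.Nodes.RGDChev

universe u v

/-! ### products over sets of bounded weight -/

/-- the maximum of `∏_{d ∈ S} v d` over the sublists `S` of `L` with `∑_{d ∈ S} φ(d) ≤ n` -/
def maxp (v : ℕ → ℕ) : List ℕ → ℕ → ℕ
  | [], _ => 1
  | d :: L, n => max (maxp v L n) (if Nat.totient d ≤ n then v d * maxp v L (n - Nat.totient d) else 1)

theorem prod_le_maxp (v : ℕ → ℕ) : ∀ (L : List ℕ) (n : ℕ) (S : Finset ℕ), (∀ d ∈ S, d ∈ L) →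
    ∑ d ∈ S, Nat.totient d ≤ n → ∏ d ∈ S, v d ≤ maxp v L n
  | [], n, S, h1, h2 => by
    have : S = ∅ := Finset.eq_empty_of_forall_notMem fun d hd => by simpa using h1 d hd
    rw [this, Finset.prod_empty]
    exact le_rfl
  | d :: L, n, S, h1, h2 => by
    by_cases hd : d ∈ S
    · have h3 := Finset.sum_erase_add S Nat.totient hd
      have h4 := Finset.prod_erase_mul S v hd
      have h5 : Nat.totient d ≤ n := by omega
      refine le_trans ?_ (le_max_right _ _)
      rw [if_pos h5, ← h4, mul_comm]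
      refine Nat.mul_le_mul_left _ (prod_le_maxp v L _ _ (fun e he => ?_) (by omega))
      rw [Finset.mem_erase] at he
      rcases List.mem_cons.1 (h1 e he.2) with h6 | h6
      · exact absurd h6 he.1
      · exact h6
    · refine le_trans (prod_le_maxp v L n S (fun e he => ?_) h2) (le_max_left _ _)
      rcases List.mem_cons.1 (h1 e he) with h6 | h6
      · rw [h6] at he
        exact absurd he hd
      · exact h6

/-! ### `q = 2`, `l = 6` -/

/-- the values `Φ_d(2)`, `φ(d) ≤ 6` -/
def cv (d : ℕ) : ℕ :=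
  if d = 2 then 3 else if d = 3 then 7 else if d = 4 then 5 else if d = 5 then 31 else if d = 6 then 3 else
  if d = 7 then 127 else if d = 8 then 17 else if d = 9 then 73 else if d = 10 then 11 else if d = 12 then 13 else
  if d = 14 then 43 else if d = 18 then 57 else 1

/-- the indices with `φ(d) ≤ 6` -/
def TT6 : List ℕ := [1, 2, 3, 4, 5, 6, 7, 8, 9, 10, 12, 14, 18]

theorem cv_pos : ∀ d ∈ TT6, 0 < cv d := by decide +kernel

theorem mem_TT6 : ∀ d < 73, 0 < d → Nat.totient d ≤ 6 → d ∈ TT6 := by decide +kernel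

theorem prod_eval (n : ℕ) (hn : 0 < n) : ∏ i ∈ Nat.divisors n, (cyclotomic i ℤ).eval 2 = 2 ^ n - 1 := by
  rw [← eval_prod, prod_cyclotomic_eq_X_pow_sub_one hn]
  simp

theorem cv_eq : ∀ d ∈ TT6, (cyclotomic d ℤ).eval 2 = (cv d : ℤ) := by
  have e1 : (cyclotomic 1 ℤ).eval 2 = 1 := by rw [cyclotomic_one]; norm_num
  have e2 : (cyclotomic 2 ℤ).eval 2 = 3 := by rw [cyclotomic_two]; norm_num
  have e3 : (cyclotomic 3 ℤ).eval 2 = 7 := by rw [cyclotomic_three]; norm_num
  have e4 : (cyclotomic 4 ℤ).eval 2 = 5 := by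
    have h := prod_eval 4 (by norm_num)
    rw [show Nat.divisors 4 = {1, 2, 4} by decide] at h
    simp [Finset.prod_insert] at h
    omega
  have e5 : (cyclotomic 5 ℤ).eval 2 = 31 := by
    have h := prod_eval 5 (by norm_num)
    rw [show Nat.divisors 5 = {1, 5} by decide] at h
    simp [Finset.prod_insert] at h
    omega
  have e6 : (cyclotomic 6 ℤ).eval 2 = 3 := by rw [cyclotomic_six]; norm_num
  have e7 : (cyclotomic 7 ℤ).eval 2 = 127 := by
    have h := prod_eval 7 (by norm_num)
    rw [show Nat.divisors 7 = {1, 7} by decide] at h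
    simp [Finset.prod_insert] at h
    omega
  have e8 : (cyclotomic 8 ℤ).eval 2 = 17 := by
    have h := prod_eval 8 (by norm_num)
    rw [show Nat.divisors 8 = {1, 2, 4, 8} by decide] at h
    simp [e4, Finset.prod_insert] at h
    omega
  have e9 : (cyclotomic 9 ℤ).eval 2 = 73 := by
    have h := prod_eval 9 (by norm_num)
    rw [show Nat.divisors 9 = {1, 3, 9} by decide] at h
    simp [Finset.prod_insert] at h
    omega
  have e10 : (cyclotomic 10 ℤ).eval 2 = 11 := by
    have h := prod_eval 10 (by norm_num)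
    rw [show Nat.divisors 10 = {1, 2, 5, 10} by decide] at h
    simp [e5, Finset.prod_insert] at h
    omega
  have e12 : (cyclotomic 12 ℤ).eval 2 = 13 := by
    have h := prod_eval 12 (by norm_num)
    rw [show Nat.divisors 12 = {1, 2, 3, 4, 6, 12} by decide] at h
    simp [e4, Finset.prod_insert] at h
    omega
  have e14 : (cyclotomic 14 ℤ).eval 2 = 43 := by
    have h := prod_eval 14 (by norm_num)
    rw [show Nat.divisors 14 = {1, 2, 7, 14} by decide] at h
    simp [e7, Finset.prod_insert] at h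
    omega
  have e18 : (cyclotomic 18 ℤ).eval 2 = 57 := by
    have h := prod_eval 18 (by norm_num)
    rw [show Nat.divisors 18 = {1, 2, 3, 6, 9, 18} by decide] at h
    simp [e9, Finset.prod_insert] at h
    omega
  intro d hd
  simp only [TT6, List.mem_cons, List.not_mem_nil, or_false] at hd
  rcases hd with rfl | rfl | rfl | rfl | rfl | rfl | rfl | rfl | rfl | rfl | rfl | rfl | rfl
  · exact e1
  · exact e2
  · exact e3
  · exact e4
  · exact e5
  · exact e6
  · exact e7
  · exact e8
  · exact e9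
  · exact e10
  · exact e12
  · exact e14
  · exact e18

end Cfsg.Agent.H501.TwoCyc.Ord

private theorem dce_f62cf4507fee : _root_.True := by
  try have : _root_.True := by simp only [_root_.Cfsg.Agent.H501.TwoCyc.Ord.TT6.eq_1]
  exact _root_.True.intro
end

-- part: R2/E72T/Tws
section
set_option linter.all false
open scoped Cfsg.Agent.FastGrp

-- part: R2/E72T/Sub
section
/-!
# Subsystem homomorphisms in characteristic 2 (S5934, box T)

`subHom` : a map `τ` of root indices respecting negatives and sums induces a homomorphism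
`D₀.SteinbergGroup K →* GL D.Idx k`, `x̄_r(t) ↦ x_{τ r}(f t)`, in characteristic 2.
-/

set_option autoImplicit false
set_option linter.unusedSectionVars false

namespace Cfsg.Agent.R2.E72T

open Cfsg.Lie Cfsg.Agent.ChevalleyStructure Cfsg.Agent.ChevalleyStructure.Elts
open Cfsg.Agent.ChevalleyStructure.StBasic
open Cfsg.Agent.H420.PG

universe u v

/-- the row of the check -/
def chkRow (D₀ D : ChevalleyDatum) (τ : ℕ → ℕ) (r : ℕ) : Bool :=
  decide (τ r < D.nroots) && (decide (D₀.neg r < D₀.nroots) && ((D.neg (τ r) == τ (D₀.neg r)) &&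
    (List.range D₀.nroots).all fun s => s == r || (s == D₀.neg r ||
      (okB D (τ r) (τ s) ((odd3 D₀ r s).map fun c => (τ c.1, c.2)) && (odd3 D₀ r s).all fun c => decide (c.1 < D₀.nroots)))))

/-- the map `τ` is compatible with the commutator relations modulo 2 -/
structure SubOK (D₀ D : ChevalleyDatum) (τ : ℕ → ℕ) : Prop where
  row : ∀ r < D₀.nroots, chkRow D₀ D τ r = true

namespace SubOK

variable {D₀ D : ChevalleyDatum} {τ : ℕ → ℕ} (h : SubOK D₀ D τ)

include h

theorem lt {r : ℕ} (hr : r < D₀.nroots) : τ r < D.nroots := by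
  have h1 := h.row r hr
  unfold chkRow at h1
  simp only [Bool.and_eq_true, decide_eq_true_eq] at h1
  exact h1.1

theorem neg_lt {r : ℕ} (hr : r < D₀.nroots) : D₀.neg r < D₀.nroots := by
  have h1 := h.row r hr
  unfold chkRow at h1
  simp only [Bool.and_eq_true, decide_eq_true_eq] at h1
  exact h1.2.1

theorem neg {r : ℕ} (hr : r < D₀.nroots) : D.neg (τ r) = τ (D₀.neg r) := by
  have h1 := h.row r hr
  unfold chkRow at h1
  simp only [Bool.and_eq_true, beq_iff_eq] at h1
  exact h1.2.2.1

theorem ok {r s : ℕ} (hr : r < D₀.nroots) (hs : s < D₀.nroots) (h1 : s ≠ r) (h2 : s ≠ D₀.neg r) :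
    okB D (τ r) (τ s) ((odd3 D₀ r s).map fun c => (τ c.1, c.2)) = true ∧ ∀ c ∈ odd3 D₀ r s, c.1 < D₀.nroots := by
  have h3 := h.row r hr
  unfold chkRow at h3
  simp only [Bool.and_eq_true] at h3
  have h4 := List.all_eq_true.1 h3.2.2.2 s (List.mem_range.2 hs)
  simp only [Bool.or_eq_true, beq_iff_eq, h1, h2, false_or, Bool.and_eq_true] at h4
  refine ⟨h4.1, fun c hc => ?_⟩
  have h5 := List.all_eq_true.1 h4.2 c hc
  simpa using h5

end SubOK

section Hom

variable {D₀ D : ChevalleyDatum} {τ : ℕ → ℕ} (h : SubOK D₀ D τ) (hD : InList D)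
  {K : Type v} [Field K] [CharP K 2] {k : Type u} [Field k] [CharP k 2] (f : K →+* k)

/-- the images of the generators -/
noncomputable def gx (D₀ : ChevalleyDatum) (hD : InList D) (τ : ℕ → ℕ) (f : K →+* k) (r : ℕ) (t : K) : GL D.Idx k :=
  if r < D₀.nroots then xG hD (τ r) (f t) else 1

theorem gx_of_lt {r : ℕ} (hr : r < D₀.nroots) (t : K) : gx D₀ hD τ f r t = xG hD (τ r) (f t) := if_pos hr

theorem gx_of_not_lt {r : ℕ} (hr : ¬ r < D₀.nroots) (t : K) : gx D₀ hD τ f r t = 1 := if_neg hr

theorem gx_zero (r : ℕ) : gx D₀ hD τ f r 0 = 1 := by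
  unfold gx
  split_ifs
  · rw [map_zero, xG_zero]
  · rfl

/-- the product over the terms of a commutator, modulo 2 -/
theorem prod_terms (t u : K) : ∀ w : List (ℕ × ℤ × ℕ × ℕ),
    (∀ c ∈ (w.filter fun t => t.2.1 % 2 != 0).map fun t => (t.1, t.2.2), c.1 < D₀.nroots) →
    ((w.map fun c => (c.1, (c.2.1 : K) * (-t) ^ c.2.2.1 * u ^ c.2.2.2)).map fun p => gx D₀ hD τ f p.1 p.2).prod =
      ((((w.filter fun t => t.2.1 % 2 != 0).map fun t => (t.1, t.2.2)).map fun c => (τ c.1, c.2)).map
        fun c : ℕ × ℕ × ℕ => xG hD c.1 ((f t) ^ c.2.1 * (f u) ^ c.2.2)).prod := by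
  intro w
  have e : (-t : K) = t := CharTwo.neg_eq t
  induction w with
  | nil => intro _; rfl
  | cons c w ih =>
    intro hw
    by_cases hc : c.2.1 % 2 ≠ 0
    · rw [List.filter_cons_of_pos (by simpa using hc)] at hw ⊢
      simp only [List.map_cons, List.prod_cons]
      rw [List.map_cons, List.forall_mem_cons] at hw
      rw [ih hw.2]
      congr 1
      rw [gx_of_lt hD f hw.1]
      simp only [e, cast_odd hc, one_mul, map_mul, map_pow]
    · rw [List.filter_cons_of_neg (by simpa using hc)] at hw ⊢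
      simp only [List.map_cons, List.prod_cons]
      rw [ih hw]
      simp only [cast_even hc, zero_mul, gx_zero, one_mul]

/-- the word of `h_r(t)` -/
theorem prod_hWord (h : SubOK D₀ D τ) {r : ℕ} (hr : r < D₀.nroots) (t : K) :
    ((D₀.hWord r t).map fun p => gx D₀ hD τ f p.1 p.2).prod = StTheta.thetaGL hD k (sth D (τ r) (f t)) := by
  have h1 : (D₀.hWord r t).map (fun p => gx D₀ hD τ f p.1 p.2) =
      (D.hWord (τ r) (f t)).map (fun p => StTheta.thetaGL hD k (D.stGen k p.1 p.2)) := by
    show [gx D₀ hD τ f r t, gx D₀ hD τ f (D₀.neg r) (-t⁻¹), gx D₀ hD τ f r t, gx D₀ hD τ f r (-1),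
      gx D₀ hD τ f (D₀.neg r) (-(-1)⁻¹), gx D₀ hD τ f r (-1)] =
      [StTheta.thetaGL hD k (D.stGen k (τ r) (f t)), StTheta.thetaGL hD k (D.stGen k (D.neg (τ r)) (-(f t)⁻¹)),
        StTheta.thetaGL hD k (D.stGen k (τ r) (f t)), StTheta.thetaGL hD k (D.stGen k (τ r) (-1)),
        StTheta.thetaGL hD k (D.stGen k (D.neg (τ r)) (-(-1)⁻¹)), StTheta.thetaGL hD k (D.stGen k (τ r) (-1))]
    simp only [StTheta.thetaGL_stGen, gx_of_lt hD f hr, gx_of_lt hD f (h.neg_lt hr), h.neg hr, map_neg, map_inv₀,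
      map_one]
  rw [h1, ← map_wd]
  rfl

/-- **The homomorphism of a subsystem.** -/
noncomputable def subHom : D₀.SteinbergGroup K →* GL D.Idx k :=
  lift D₀ (gx D₀ hD τ f) (fun _ t hr => gx_of_not_lt hD f hr t)
    (fun r t₁ t₂ hr => by rw [gx_of_lt hD f hr, gx_of_lt hD f hr, gx_of_lt hD f hr, xG_add, map_add])
    (fun r s t u hr hs hne hneg => by
      obtain ⟨h1, h2⟩ := h.ok hr hs hne hneg
      have h3 := rel (F := k) hD h1 (f t) (f u)
      have h4 := prod_terms (τ := τ) hD f t u (D₀.commTerms r s) h2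
      rw [gx_of_lt hD f hr, gx_of_lt hD f hs]
      have h5 : ((D₀.commWord K r s t u).map fun p => gx D₀ hD τ f p.1 p.2).prod =
          (((odd3 D₀ r s).map fun c => (τ c.1, c.2)).map
            fun c : ℕ × ℕ × ℕ => xG hD c.1 ((f t) ^ c.2.1 * (f u) ^ c.2.2)).prod := h4
      rw [h5, mul_assoc ((xG hD (τ s) (f u))⁻¹ * (xG hD (τ r) (f t))⁻¹), h3]
      group)
    (fun r t₁ t₂ hr h₁ h₂ => by
      rw [prod_hWord hD f h hr, prod_hWord hD f h hr, prod_hWord hD f h hr, ← map_mul,
        sth_mul D (h.lt hr) (by simpa using h₁) (by simpa using h₂), map_mul])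

theorem subHom_stGen {r : ℕ} (hr : r < D₀.nroots) (t : K) :
    subHom h hD f (D₀.stGen K r t) = xG hD (τ r) (f t) := by
  unfold subHom
  rw [lift_stGen, gx_of_lt hD f hr]

theorem subHom_mem (g : D₀.SteinbergGroup K) : subHom h hD f g ∈ D.group k := by
  have h1 : (⊤ : Subgroup (D₀.SteinbergGroup K)) ≤ (D.group k).comap (subHom h hD f) := by
    rw [← closure_stGen, Subgroup.closure_le]
    rintro _ ⟨r, t, hr, rfl⟩
    rw [SetLike.mem_coe, Subgroup.mem_comap, subHom_stGen h hD f hr]
    exact xG_mem_group hD _ _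
  exact h1 (Subgroup.mem_top g)

end Hom

end Cfsg.Agent.R2.E72T
end

-- part: R2/E72T/Tws
section
/-!
# Twisted subgroups of the Steinberg groups (S5934, box T)
-/

set_option autoImplicit false
set_option linter.unusedSectionVars false

namespace Cfsg.Agent.R2.E72T

open Cfsg.Lie Cfsg.Agent.ChevalleyStructure Cfsg.Agent.ChevalleyStructure.Elts
open Cfsg.Agent.ChevalleyStructure.StBasic
open Cfsg.Agent.H420.PG

universe u v

section

variable {D₀ : ChevalleyDatum} (hD₀ : InList D₀) {K : Type v} [Field K] (S : Set (List (ℕ × K)))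

/-- the subgroup of the Steinberg group generated by a set of words -/
def stS (D₀ : ChevalleyDatum) (S : Set (List (ℕ × K))) : Subgroup (D₀.SteinbergGroup K) :=
  Subgroup.closure {g | ∃ w ∈ S, g = wd D₀ w}

theorem thetaGL_wd (w : List (ℕ × K)) : StTheta.thetaGL hD₀ K (wd D₀ w) = wordG hD₀ w := by
  rw [map_wd]
  show _ = (w.map fun p => xG hD₀ p.1 p.2).prod
  congr 1
  exact List.map_congr_left fun p _ => StTheta.thetaGL_stGen hD₀ p.1 p.2

theorem map_stS : (stS D₀ S).map (StTheta.thetaGL hD₀ K) = D₀.genSubgroup K S := by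
  unfold stS ChevalleyDatum.genSubgroup
  rw [MonoidHom.map_closure]
  congr 1
  ext g
  constructor
  · rintro ⟨_, ⟨w, hw, rfl⟩, rfl⟩
    exact ⟨w, hw, by rw [thetaGL_wd, coe_wordG]⟩
  · rintro ⟨w, hw, hg⟩
    refine ⟨wd D₀ w, ⟨w, hw, rfl⟩, ?_⟩
    apply Units.ext
    rw [thetaGL_wd, coe_wordG, hg]

/-- the restriction of an injective `θ` to the twisted subgroup -/
noncomputable def stSEquiv (h : Function.Injective (StTheta.thetaGL hD₀ K)) : ↥(stS D₀ S) ≃* ↥(D₀.genSubgroup K S) :=
  ((stS D₀ S).equivMapOfInjective _ h).trans (MulEquiv.subgroupCongr (map_stS hD₀ S))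

theorem fix_stS {G : Type*} [Group G] {Θ : D₀.SteinbergGroup K →* G} {σ : G →* G}
    (h : ∀ w ∈ S, σ (Θ (wd D₀ w)) = Θ (wd D₀ w)) {x : D₀.SteinbergGroup K} (hx : x ∈ stS D₀ S) :
    σ (Θ x) = Θ x := by
  have h1 : stS D₀ S ≤ (σ.comp Θ).eqLocus Θ := by
    unfold stS
    rw [Subgroup.closure_le]
    rintro _ ⟨w, hw, rfl⟩
    exact h w hw
  exact h1 hx

end

section Hom

variable {D₀ D : ChevalleyDatum} {τ : ℕ → ℕ} (h : SubOK D₀ D τ) (hD : InList D)
  {K : Type v} [Field K] [CharP K 2] {k : Type u} [Field k] [CharP k 2] (f : K →+* k)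

/-- a homomorphism of a group with simple central quotient whose image is not abelian: the kernel is central -/
theorem ker_le_center {X G : Type*} [Group X] [Group G] (hs : IsSimpleGroup (X ⧸ Subgroup.center X)) {Θ : X →* G}
    {a b : X} (hab : Θ a * Θ b ≠ Θ b * Θ a) : Θ.ker ≤ Subgroup.center X := by
  have hn : (Θ.ker.map (QuotientGroup.mk' (Subgroup.center X))).Normal :=
    Subgroup.Normal.map inferInstance _ (QuotientGroup.mk'_surjective _)
  rcases hs.eq_bot_or_eq_top_of_normal _ hn with h1 | h1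
  · intro x hx
    have h2 : QuotientGroup.mk' (Subgroup.center X) x ∈ Θ.ker.map (QuotientGroup.mk' (Subgroup.center X)) := ⟨x, hx, rfl⟩
    rw [h1, Subgroup.mem_bot] at h2
    exact (QuotientGroup.eq_one_iff x).1 h2
  · exfalso
    have h2 : QuotientGroup.mk' (Subgroup.center X) a ∈ Θ.ker.map (QuotientGroup.mk' (Subgroup.center X)) := by
      rw [h1]; exact Subgroup.mem_top _
    obtain ⟨y, hy, hya⟩ := h2
    have h3 : y⁻¹ * a ∈ Subgroup.center X := QuotientGroup.eq.1 hya
    have h4 : Θ (y⁻¹ * a) = Θ a := by rw [map_mul, map_inv, MonoidHom.mem_ker.1 hy, inv_one, one_mul]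
    apply hab
    rw [← h4, ← map_mul, ← map_mul, (Subgroup.mem_center_iff.1 h3 b)]

end Hom

end Cfsg.Agent.R2.E72T
end

private theorem dce_8504e2b23a89 : _root_.True := by
  try have : _root_.True := by simp only [_root_.Cfsg.Agent.ChevalleyStructure.StTheta.thetaGL.congr_simp]
  try have : _root_.True := by simp only [_root_.Cfsg.Agent.R2.E72T.gx.congr_simp]
  exact _root_.True.intro
end

-- part: R2/E72T/Grp
section
set_option linter.all false
open scoped Cfsg.Agent.FastGrp

/-!
# Small facts of group theory (S5934, box T)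
-/

set_option autoImplicit false

namespace Cfsg.Agent.R2.E72T

open Subgroup

section

variable {G : Type*} [Group G] [Finite G]

theorem card_mul_relIndex' {H K : Subgroup G} (h : H ≤ K) : Nat.card H * H.relIndex K = Nat.card K := by
  rw [Subgroup.relIndex, ← Nat.card_congr (Subgroup.subgroupOfEquivOfLe h).toEquiv]
  exact Subgroup.card_mul_index _

/-- `|K H|` divides `|K| |H|` -/
theorem card_sup_dvd' {K H : Subgroup G} (h : H ≤ normalizer (K : Set G)) :
    Nat.card (K ⊔ H : Subgroup G) ∣ Nat.card K * Nat.card H := by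
  have hKn : (K.subgroupOf (K ⊔ H)).Normal :=
    normal_subgroupOf_of_le_normalizer (sup_le le_normalizer h)
  have h1 := relIndex_sup_left (H.subgroupOf (K ⊔ H)) (K.subgroupOf (K ⊔ H))
  rw [← Subgroup.subgroupOf_sup le_sup_left le_sup_right, Subgroup.subgroupOf_self,
    Subgroup.relIndex_subgroupOf le_sup_right, relIndex_top_right] at h1
  have h2 : Nat.card K * K.relIndex H = Nat.card (K ⊔ H : Subgroup G) := by
    rw [← h1]
    exact card_mul_relIndex' le_sup_left
  rw [← h2]
  exact Nat.mul_dvd_mul dvd_rfl (Subgroup.relIndex_dvd_card _ _)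

end

section Transport

variable {G H : Type*} [Group G] [Group H] (e : G ≃* H)

theorem centralizer_map_equiv (X : Subgroup G) :
    centralizer ((X.map e.toMonoidHom : Subgroup H) : Set H) = (centralizer (X : Set G)).map e.toMonoidHom := by
  ext h
  constructor
  · intro hh
    refine ⟨e.symm h, ?_, e.apply_symm_apply h⟩
    rw [SetLike.mem_coe, mem_centralizer_iff]
    intro x hx
    have h1 := mem_centralizer_iff.1 hh (e x) ⟨x, hx, rfl⟩
    apply e.injective
    rw [map_mul, map_mul, e.apply_symm_apply]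
    exact h1
  · rintro ⟨g, hg, rfl⟩
    rw [mem_centralizer_iff]
    rintro _ ⟨x, hx, rfl⟩
    have h1 := mem_centralizer_iff.1 hg x hx
    show e x * e g = e g * e x
    rw [← map_mul, h1, map_mul]

theorem card_map_equiv (X : Subgroup G) : Nat.card ↥(X.map e.toMonoidHom) = Nat.card ↥X :=
  (Nat.card_congr (X.equivMapOfInjective e.toMonoidHom e.injective).toEquiv).symm

theorem simple_map_equiv (X : Subgroup G) (h : IsSimpleGroup ↥X) : IsSimpleGroup ↥(X.map e.toMonoidHom) :=
  (MulEquiv.isSimpleGroup_congr (X.equivMapOfInjective e.toMonoidHom e.injective)).1 h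

theorem mem_centralizer_subgroupOf {P X : Subgroup G} (h : X ≤ P) {g : ↥P} :
    g ∈ centralizer ((X.subgroupOf P : Subgroup ↥P) : Set ↥P) ↔ (g : G) ∈ centralizer (X : Set G) := by
  rw [mem_centralizer_iff, mem_centralizer_iff]
  constructor
  · intro h1 x hx
    exact congrArg Subtype.val (h1 ⟨x, h hx⟩ (mem_subgroupOf.2 hx))
  · intro h1 x hx
    exact Subtype.ext (h1 x (mem_subgroupOf.1 hx))

end Transport

section Seven

variable {G : Type*} [Group G] [Finite G]

/-- If `X`, `Y` commute, have trivial centres and an element of order `p` centralises both, then `|X| |Y| p`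
divides `|G|`. -/
theorem card_mul_dvd_of_centralizer {X Y : Subgroup G} (hX : center ↥X = ⊥) (hY : center ↥Y = ⊥)
    (hXY : Y ≤ centralizer (X : Set G)) {c : G} (hc : c ∈ centralizer (X : Set G)) (hc' : c ∈ centralizer (Y : Set G)) :
    Nat.card X * Nat.card Y * orderOf c ∣ Nat.card G := by
  have c1 : ∀ x ∈ X, ∀ y ∈ Y, x * y = y * x := fun x hx y hy => mem_centralizer_iff.1 (hXY hy) x hx
  have c2 : ∀ x ∈ X, ∀ z ∈ zpowers c, x * z = z * x := by
    intro x hx z hz
    obtain ⟨n, rfl⟩ := mem_zpowers_iff.1 hz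
    exact ((show Commute x c from mem_centralizer_iff.1 hc x hx).zpow_right n).eq
  have c3 : ∀ y ∈ Y, ∀ z ∈ zpowers c, y * z = z * y := by
    intro x hx z hz
    obtain ⟨n, rfl⟩ := mem_zpowers_iff.1 hz
    exact ((show Commute x c from mem_centralizer_iff.1 hc' x hx).zpow_right n).eq
  let f : ↥X × ↥Y × ↥(zpowers c) →* G :=
    { toFun := fun p => (p.1 : G) * ((p.2.1 : G) * (p.2.2 : G))
      map_one' := by simp
      map_mul' := by
        rintro ⟨x, y, z⟩ ⟨x', y', z'⟩
        show (x : G) * x' * ((y : G) * y' * ((z : G) * z')) = x * (y * z) * (x' * (y' * z'))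
        have e1 := c1 x' x'.2 y y.2
        have e2 := c2 x' x'.2 z z.2
        have e3 := c3 y' y'.2 z z.2
        calc (x : G) * x' * ((y : G) * y' * ((z : G) * z')) = x * (x' * y) * (y' * z) * z' := by group
          _ = x * (y * x') * (z * y') * z' := by rw [e1, e3]
          _ = x * y * (x' * z) * y' * z' := by group
          _ = x * y * (z * x') * y' * z' := by rw [e2]
          _ = _ := by group }
  have hf : Function.Injective f := by
    rw [injective_iff_map_eq_one]
    rintro ⟨x, y, z⟩ h1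
    have h1' : (x : G) * ((y : G) * (z : G)) = 1 := h1
    have hx : x = 1 := by
      have h2 : x ∈ center ↥X := by
        rw [mem_center_iff]
        intro g
        apply Subtype.ext
        have h3 : (x : G) = ((y : G) * z)⁻¹ := eq_inv_of_mul_eq_one_left h1'
        have h4 : Commute (g : G) ((y : G) * z) := (show Commute (g : G) y from c1 g g.2 y y.2).mul_right
          (show Commute (g : G) z from c2 g g.2 z z.2)
        show (g : G) * x = x * g
        rw [h3]
        exact h4.inv_right.eq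
      rw [hX, mem_bot] at h2
      exact h2
    subst hx
    rw [OneMemClass.coe_one, one_mul] at h1'
    have hy : y = 1 := by
      have h2 : y ∈ center ↥Y := by
        rw [mem_center_iff]
        intro g
        apply Subtype.ext
        have h3 : (y : G) = (z : G)⁻¹ := eq_inv_of_mul_eq_one_left h1'
        have h4 : Commute (g : G) (z : G) := c3 g g.2 z z.2
        show (g : G) * y = y * g
        rw [h3]
        exact h4.inv_right.eq
      rw [hY, mem_bot] at h2
      exact h2
    subst hy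
    rw [OneMemClass.coe_one, one_mul] at h1'
    have hz : z = 1 := Subtype.ext h1'
    subst hz
    rfl
  have h1 := Subgroup.card_dvd_of_injective f hf
  rw [Nat.card_prod, Nat.card_prod, Nat.card_zpowers, ← mul_assoc] at h1
  exact h1

end Seven

end Cfsg.Agent.R2.E72T
end

-- part: R2/E72T/Cov
section
set_option linter.all false
open scoped Cfsg.Agent.FastGrp

/-!
# Triple covers (S5934, box T)
-/

set_option autoImplicit false
set_option linter.unusedSectionVars false

namespace Cfsg.Agent.R2.E72T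

open Subgroup
open scoped commutatorElement

theorem center_eq_bot_of_not_prime {G : Type*} [Group G] [Finite G] (h : IsSimpleGroup G) (hc : ¬ (Nat.card G).Prime) :
    center G = ⊥ := by
  rcases h.eq_bot_or_eq_top_of_normal (center G) inferInstance with h1 | h1
  · exact h1
  · exfalso
    let _ : CommGroup G := Group.commGroupOfCenterEqTop h1
    exact hc IsSimpleGroup.prime_card

theorem commutator_eq_top_of_simple {G : Type*} [Group G] [Finite G] (h : IsSimpleGroup G)
    (hc : ¬ (Nat.card G).Prime) : commutator G = ⊤ := by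
  rcases h.eq_bot_or_eq_top_of_normal (commutator G) inferInstance with h1 | h1
  · exfalso
    have h2 : center G = ⊤ := by
      rw [← commutator_eq_bot_iff_center_eq_top]
      exact h1
    rw [center_eq_bot_of_not_prime h hc] at h2
    have := h.toNontrivial
    exact bot_ne_top h2
  · exact h1

/-- the covering group -/
structure Cov (n : ℕ) (R : Type*) [Group R] : Prop where
  perf : commutator R = ⊤
  simp : IsSimpleGroup (R ⧸ center R)
  card : Nat.card R = 3 * n
  cent : Nat.card (center R) = 3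

theorem cov_of_hom {R T : Type*} [Group R] [Finite R] [Group T] {ρ : R →* T} (hρ : Function.Surjective ρ)
    (hT : IsSimpleGroup T) {n : ℕ} (hn : Nat.card T = n) (hp : ¬ n.Prime) (hk : ρ.ker ≤ center R)
    (h3 : Nat.card ρ.ker = 3) (hi : closure {g : R | g ^ 2 = 1} = ⊤) : Cov n R := by
  have : Finite T := Finite.of_surjective ρ hρ
  have hcen : center R = ρ.ker := by
    refine le_antisymm ?_ hk
    intro g hg
    rw [MonoidHom.mem_ker, ← mem_bot, ← center_eq_bot_of_not_prime hT (by rwa [hn]), mem_center_iff]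
    intro x
    obtain ⟨y, rfl⟩ := hρ x
    rw [← map_mul, ← map_mul, mem_center_iff.1 hg y]
  have e : R ⧸ ρ.ker ≃* T := QuotientGroup.quotientKerEquivOfSurjective ρ hρ
  have hcR : Nat.card R = 3 * n := by
    have h1 := card_mul_index ρ.ker
    rw [h3] at h1
    rw [← h1, ← hn]
    congr 1
    exact Nat.card_congr e.toEquiv
  refine ⟨?_, ?_, hcR, by rw [hcen, h3]⟩
  · have hmap : (commutator R).map ρ = ⊤ := by
      have h1 : (commutator R).map ρ = ⁅(⊤ : Subgroup R).map ρ, (⊤ : Subgroup R).map ρ⁆ := by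
        rw [← map_commutator]
        rfl
      rw [h1, map_top_of_surjective ρ hρ]
      exact commutator_eq_top_of_simple hT (by rwa [hn])
    have hsup : ρ.ker ⊔ commutator R = ⊤ := by
      rw [eq_top_iff]
      intro g _
      have h1 : ρ g ∈ (commutator R).map ρ := by rw [hmap]; exact mem_top _
      obtain ⟨c, hc, hcg⟩ := h1
      have h2 : g * c⁻¹ ∈ ρ.ker := by rw [MonoidHom.mem_ker, map_mul, map_inv, hcg, mul_inv_cancel]
      have h3 : g = g * c⁻¹ * c := by group
      rw [h3]
      exact mul_mem (mem_sup_left h2) (mem_sup_right hc)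
    have hidx : (commutator R).index ∣ 3 := by
      have h1 := relIndex_sup_right ρ.ker (commutator R)
      rw [hsup, relIndex_top_right] at h1
      rw [h1, ← h3]
      exact relIndex_dvd_card _ _
    rw [eq_top_iff, ← hi, closure_le]
    intro g hg
    have hg2 : g ^ 2 = 1 := hg
    have h1 : (QuotientGroup.mk' (commutator R) g) ^ 2 = 1 := by rw [← map_pow, hg2, map_one]
    have h2 : orderOf (QuotientGroup.mk' (commutator R) g) ∣ 2 := orderOf_dvd_of_pow_eq_one h1
    have h4 : orderOf (QuotientGroup.mk' (commutator R) g) ∣ 3 :=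
      (_root_.orderOf_dvd_natCard _).trans hidx
    have h5 : orderOf (QuotientGroup.mk' (commutator R) g) = 1 := by
      have := Nat.dvd_gcd h2 h4
      simpa using this
    rw [orderOf_eq_one_iff] at h5
    exact (QuotientGroup.eq_one_iff g).1 h5
  · exact (MulEquiv.isSimpleGroup_congr ((QuotientGroup.quotientMulEquivOfEq hcen).trans e)).2 hT

theorem card_center_congr {G H : Type*} [Group G] [Group H] (e : G ≃* H) :
    Nat.card (center G) = Nat.card (center H) :=
  Nat.card_congr (Subgroup.centerCongr e).toEquiv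

theorem map_center_equiv {G H : Type*} [Group G] [Group H] (e : G ≃* H) :
    (center G).map (e : G →* H) = center H := by
  ext h
  constructor
  · rintro ⟨g, hg, rfl⟩
    rw [mem_center_iff]
    intro x
    obtain ⟨y, rfl⟩ := e.surjective x
    show e y * e g = e g * e y
    rw [← map_mul, mem_center_iff.1 hg y, map_mul]
  · intro hh
    refine ⟨e.symm h, ?_, e.apply_symm_apply h⟩
    rw [SetLike.mem_coe, mem_center_iff]
    intro x
    apply e.injective
    rw [map_mul, map_mul, e.apply_symm_apply]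
    exact mem_center_iff.1 hh (e x)

theorem Cov.congr {G H : Type*} [Group G] [Group H] {n : ℕ} (e : G ≃* H) (h : Cov n G) : Cov n H where
  perf := by
    have h1 : (commutator G).map (e : G →* H) = commutator H := by
      show (⁅(⊤ : Subgroup G), ⊤⁆ : Subgroup G).map _ = ⁅(⊤ : Subgroup H), ⊤⁆
      rw [map_commutator, map_top_of_surjective _ e.surjective]
    rw [← h1, h.perf, map_top_of_surjective _ e.surjective]
  simp := (MulEquiv.isSimpleGroup_congr (QuotientGroup.congr (center G) (center H) e (map_center_equiv e))).1 h.simp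
  card := by rw [← Nat.card_congr e.toEquiv, h.card]
  cent := by rw [← card_center_congr e, h.cent]

/-- the subgroup version -/
theorem Cov.sub {G : Type*} [Group G] {X : Subgroup G} {n : ℕ} (h : Cov n ↥X) :
    ⁅X, X⁆ = X ∧ IsSimpleGroup (↥X ⧸ center ↥X) ∧ Nat.card ↥X = 3 * n ∧ Nat.card ↥(center ↥X) = 3 := by
  refine ⟨?_, h.simp, h.card, h.cent⟩
  have h1 : (commutator ↥X).map X.subtype = ⁅X, X⁆ := by
    show (⁅(⊤ : Subgroup ↥X), ⊤⁆ : Subgroup ↥X).map _ = _
    rw [map_commutator, ← MonoidHom.range_eq_map, range_subtype]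
  rw [← h1, h.perf, ← MonoidHom.range_eq_map, range_subtype]

/-- the range of an injective homomorphism -/
theorem Cov.range {R G : Type*} [Group R] [Group G] {n : ℕ} {j : R →* G} (hj : Function.Injective j) (h : Cov n R) :
    Cov n ↥j.range := h.congr (MonoidHom.ofInjective hj)

end Cfsg.Agent.R2.E72T
end

-- part: R2/E72T/Iso
section
set_option linter.all false
open scoped Cfsg.Agent.FastGrp

/-!
# `E₇(2)` as the fixed points of a twisted Frobenius map of `E₇(k)` (S5934, box T)

* `exists_iso` : Lang: `PF D φ n ≃* D.group F`, if `d`-th roots exist in `F` (`d` a denominator of the inverse Cartan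
  matrix).
* `iso7` : every `P7 n` is isomorphic to `E₇(2)`.
-/

set_option autoImplicit false
set_option linter.unusedSectionVars false

namespace Cfsg.Agent.R2.E72T

open CoxeterSystem Cfsg Cfsg.Lie Cfsg.Lie.ChevalleyDatum
open Cfsg.Agent.ChevalleyStructure Cfsg.Agent.ChevalleyStructure.Elts Cfsg.Agent.ChevalleyStructure.CoxeterGeom
  Cfsg.Agent.ChevalleyStructure.CoxeterGeomTypes Cfsg.Agent.ChevalleyStructure.NPerm
open Cfsg.Agent.Tits.Roots Cfsg.Agent.Tits.Core Cfsg.Agent.Nodes Cfsg.Agent.Nodes.Reps Cfsg.Agent.Nodes.BNOf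
  Cfsg.Agent.Nodes.RGDChev Cfsg.Agent.Nodes.Bruhat Cfsg.Agent.Nodes.SubComb Cfsg.Agent.Nodes.Coroot
open Cfsg.Agent.KFacts.RgdField Cfsg.Agent.KFacts.RgdChevCoord Cfsg.Agent.BpExc.TorCent Cfsg.Agent.BpExc.TorChev
open Cfsg.Agent.GpExc.Field Cfsg.Agent.BpExc.Tow Cfsg.Agent.BpExc.TowChev Cfsg.Agent.BpExc.Fr
  Cfsg.Agent.BpExc.LangFr Cfsg.Agent.LangThm Cfsg.Agent.BpExc Cfsg.Agent.H129.TorusChar Cfsg.Agent.H129.TorusCent
  Cfsg.Agent.H129.TorusTw Cfsg.Agent.H129.TorusMain Cfsg.Agent.H129.TorusUntw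
open Cfsg.Agent.H420.PG

universe u

section Gen

variable {D : ChevalleyDatum} {l : ℕ} {M : CoxeterMatrix (Fin l)} (hp : IsType D l M) {k : Type u} [Field k]
  {W : Type*} [Group W] (cs : CoxeterSystem M W) {p e : ℕ} [Fact p.Prime] [CharP k p]

include hp cs in
/-- **The fixed points of a twisted Frobenius map are `D.group F`.** -/
theorem exists_iso [IsAlgClosed k] (he : 0 < e) {F : Type u} [Field F] [Fintype F] (f : F →+* k)
    (hq : Fintype.card F = p ^ e) {d : ℕ} {B : Fin l → Fin l → ℤ} (hB : InvC D l d B) (hd : d ≠ 0)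
    (hF : ∀ a : F, ∃ b : F, b ^ d = a) {n : GL D.Idx k} (hn : n ∈ D.group k) :
    Nonempty (↥(PF D (iterateFrobenius k p e) n) ≃* ↥(D.group F)) := by
  obtain ⟨z, hz⟩ := lang_all hp cs he (isFrob_phi (k := k) (D := D) (p := p) (e := e)) (fr_phi hp cs) 1 ⟨n, hn⟩
  rw [map_one, one_mul] at hz
  let ι : ↥(PF D (iterateFrobenius k p e) n) →* ↥(D.group k) := Subgroup.inclusion inf_le_left
  let c : ↥(PF D (iterateFrobenius k p e) n) →* ↥(D.group k) := (MulAut.conj z).toMonoidHom.comp ι
  have hc : ∀ g, c g = z * ι g * z⁻¹ := fun _ => rfl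
  have hfix : ∀ g, phi D k p e (c g) = c g := by
    intro g
    rw [hc]
    refine conj_fixed (n := ⟨n, hn⟩) (t := ι g) hz ?_ (Subgroup.mem_zpowers _)
    apply Subtype.ext
    rw [phi_eq hp]
    exact (mem_PF.1 g.2).2
  have hr : ∀ g, c g ∈ (emb hp.inList f).range := fun g =>
    fix_range hp cs f hq hB hd hF (hfix g)
  let θ : ↥(PF D (iterateFrobenius k p e) n) →* ↥(D.group F) :=
    (MonoidHom.ofInjective (emb_injective hp.inList f)).symm.toMonoidHom.comp (c.codRestrict _ hr)
  have hθ : ∀ g, emb hp.inList f (θ g) = c g := by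
    intro g
    have h1 := (MonoidHom.ofInjective (emb_injective hp.inList f)).apply_symm_apply (c.codRestrict _ hr g)
    exact congrArg Subtype.val h1
  refine ⟨MulEquiv.ofBijective θ ⟨?_, ?_⟩⟩
  · intro a b hab
    have h2 : c a = c b := by rw [← hθ, ← hθ, hab]
    have h3 : ι a = ι b := by
      rw [hc, hc] at h2
      exact mul_left_cancel (mul_right_cancel h2)
    exact Subgroup.inclusion_injective _ h3
  · intro y
    set x : ↥(D.group k) := z⁻¹ * emb hp.inList f y * z with hx
    have h1 : phi D k p e (emb hp.inList f y) = emb hp.inList f y := phi_emb hp f hq y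
    have h2 : (⟨n, hn⟩ : ↥(D.group k)) * phi D k p e x * (⟨n, hn⟩ : ↥(D.group k))⁻¹ = x := by
      rw [hx, map_mul, map_mul, map_inv, h1, hz]
      group
    have h3 : (x : GL D.Idx k) ∈ PF D (iterateFrobenius k p e) n := by
      refine mem_PF.2 ⟨x.2, ?_⟩
      have h4 := congrArg (Subtype.val) h2
      rw [phi_eq hp] at h4
      exact h4
    refine ⟨⟨x, h3⟩, ?_⟩
    apply emb_injective hp.inList f
    rw [hθ, hc]
    have h5 : ι ⟨x, h3⟩ = x := rfl
    rw [h5, hx]
    group

end Gen

/-! ### `E₇(2)` -/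

/-- the algebraic closure of the field with two elements -/
abbrev KK : Type := AlgebraicClosure (ZMod 2)

theorem hp7 : IsType chevE7 7 CoxeterMatrix.E₇ := Cfsg.Agent.Nodes.KindE.isType7

theorem hE7 : InList chevE7 := hp7.inList

instance : CharP KK 2 := charP_of_injective_algebraMap (algebraMap (ZMod 2) KK).injective 2

/-- the fixed points of `g ↦ n φ(g) n⁻¹` -/
noncomputable def P7 (n : GL chevE7.Idx KK) : Subgroup (GL chevE7.Idx KK) := PF chevE7 (iterateFrobenius KK 2 1) n

/-- **`E₇(2)` is the group of the fixed points of every twisted Frobenius map.** -/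
theorem iso7 {n : GL chevE7.Idx KK} (hn : n ∈ chevE7.group KK) : Nonempty (↥(P7 n) ≃* ↥(chevE7.group (ZMod 2))) :=
  exists_iso hp7 CoxeterMatrix.E₇.toCoxeterSystem Nat.one_pos (algebraMap (ZMod 2) KK) (by rw [ZMod.card, pow_one])
    invC_E7 two_ne_zero (by decide) hn

end Cfsg.Agent.R2.E72T

private theorem dce_1a432b04922f : _root_.True := by
  try have : _root_.True := by simp only [_root_.Cfsg.Agent.H129.TorusUntw.phi.congr_simp]
  try have : _root_.True := by simp only [_root_.Cfsg.Agent.GpExc.Field.emb.congr_simp]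
  exact _root_.True.intro
end

-- part: R2/E72T/Slt
section
set_option linter.all false
open scoped Cfsg.Agent.FastGrp

-- part: R2/E72T/Base
section
/-!
# Products of conjugate root `SL₂`s fixed by a twisted Frobenius map of `E₇(k)`, characteristic 2 (S5934, box T)
-/

set_option autoImplicit false
set_option linter.unusedSectionVars false

namespace Cfsg.Agent.R2.E72T

open Cfsg.Lie Cfsg.Agent.ChevalleyStructure Cfsg.Agent.ChevalleyStructure.Elts
open Cfsg.Agent.ChevalleyStructure.SL2Hom (up lo mem_closure_SL2)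
open Cfsg.Agent.Nodes.RGDFoldSL
open Cfsg.Agent.GpExc.Field (glMap coe_glMap glMap_xG)
open Cfsg.Agent.H420.PG
open scoped MatrixGroups

universe v

/-- the twisted Frobenius map belonging to a word -/
noncomputable def sg (w : List ℕ) : GL chevE7.Idx KK →* GL chevE7.Idx KK :=
  tsig chevE7 (iterateFrobenius KK 2 1) (nwd hE7 w)

/-- its fixed points -/
noncomputable def PW (w : List ℕ) : Subgroup (GL chevE7.Idx KK) := P7 (nwd hE7 w)

theorem mem_PW {w : List ℕ} {g : GL chevE7.Idx KK} : g ∈ PW w ↔ g ∈ chevE7.group KK ∧ sg w g = g := Iff.rfl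

/-- **`E₇(2)` is the group of the fixed points.** -/
theorem isoW (w : List ℕ) : Nonempty (↥(PW w) ≃* ↥(chevE7.group (ZMod 2))) := iso7 (nwd_mem hE7 w)

/-- the Frobenius map -/
noncomputable abbrev φ2 : KK →+* KK := iterateFrobenius KK 2 1

theorem φ2_apply (a : KK) : φ2 a = a ^ 2 := by
  rw [φ2, iterateFrobenius_def, pow_one]

theorem sg_x {w : List ℕ} (hw : ∀ i ∈ w, i < chevE7.rank) {s : ℕ} (hs : s < 126) (t : KK) :
    sg w (xG hE7 s t) = xG hE7 (w.foldr chevE7.reflectRoot s) (t ^ 2) := by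
  rw [sg, tsig_apply, glMap_xG, ← φ2_apply]
  exact (nwd_conj hE7 hw (show s < chevE7.nroots from hs) _).1

theorem neg_lt7 {r : ℕ} (hr : r < 126) : chevE7.neg r < 126 := NPerm.neg_lt hE7 (show r < chevE7.nroots from hr)

theorem psi_mem_group {r : ℕ} (hr : r < 126) {k : Type*} [Field k] (g : SL(2, k)) :
    psi hE7 k r g ∈ chevE7.group k := by
  have h1 := psi_mem hE7 (show r < chevE7.nroots from hr) g
  refine (sup_le ?_ ?_ : chevE7.rootSubgroup k r ⊔ chevE7.rootSubgroup k (chevE7.neg r) ≤ chevE7.group k) h1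
  · intro x hx
    obtain ⟨t, rfl⟩ := (mem_rootSubgroup_iff hE7 r x).1 hx
    exact xG_mem_group hE7 r t
  · intro x hx
    obtain ⟨t, rfl⟩ := (mem_rootSubgroup_iff hE7 _ x).1 hx
    exact xG_mem_group hE7 _ t

theorem sg_ps {w : List ℕ} (hw : ∀ i ∈ w, i < chevE7.rank) {r s : ℕ} (hr : r < 126)
    (h1 : w.foldr chevE7.reflectRoot r = s) (h2 : w.foldr chevE7.reflectRoot (chevE7.neg r) = chevE7.neg s)
    (hs : s < 126) (g : SL(2, KK)) :
    sg w (psi hE7 KK r g) = psi hE7 KK s (Matrix.SpecialLinearGroup.map φ2 g) := by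
  subst h1
  exact tsig_psi (ρ := w.foldr chevE7.reflectRoot) hE7 (show r < chevE7.nroots from hr)
    (show w.foldr chevE7.reflectRoot r < chevE7.nroots from hs) h2.symm
    (fun t => by rw [sg_x hw hr, φ2_apply]) (fun t => by rw [sg_x hw (neg_lt7 hr), φ2_apply]) g

/-! ### products -/

section Cyc

variable {m : ℕ} (r : Fin m → ℕ)

/-- the roots are orthogonal -/
def Orth : Bool := (List.finRange m).all fun i => (List.finRange m).all fun j => i == j || okP chevE7 (r i) (r j)

variable {r}

theorem orth_comm (h : Orth r = true) {i j : Fin m} (hij : i ≠ j) (g g' : SL(2, KK)) :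
    Commute (psi hE7 KK (r i) g) (psi hE7 KK (r j) g') := by
  have h1 := List.all_eq_true.1 (List.all_eq_true.1 h i (List.mem_finRange i)) j (List.mem_finRange j)
  rw [Bool.or_eq_true] at h1
  rcases h1 with h1 | h1
  · rw [beq_iff_eq] at h1
    exact absurd h1 hij
  · exact psi_comm_psi hE7 h1 g g'

theorem orth_pw (h : Orth r = true) :
    Pairwise fun i j => ∀ (x y : SL(2, KK)), Commute ((psi hE7 KK (r i)) x) ((psi hE7 KK (r j)) y) :=
  fun _ _ hij x y => orth_comm h hij x y

/-- the product of the root `SL₂`s -/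
noncomputable def Psi (h : Orth r = true) : (Fin m → SL(2, KK)) →* GL chevE7.Idx KK :=
  MonoidHom.noncommPiCoprod (fun i => psi hE7 KK (r i)) (orth_pw h)

theorem Psi_single (h : Orth r = true) (i : Fin m) (g : SL(2, KK)) :
    Psi h (Pi.mulSingle i g) = psi hE7 KK (r i) g :=
  MonoidHom.noncommPiCoprod_mulSingle _ (hcomm := orth_pw h) i g

/-- the roots are permuted cyclically -/
def CycB (w : List ℕ) (r : Fin m → ℕ) (next : Fin m → Fin m) : Bool :=
  (List.finRange m).all fun i => decide (r i < 126) && ((w.foldr chevE7.reflectRoot (r i) == r (next i)) &&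
    (w.foldr chevE7.reflectRoot (chevE7.neg (r i)) == chevE7.neg (r (next i))))

theorem cyc_spec {w : List ℕ} {next : Fin m → Fin m} (h : CycB w r next = true) (i : Fin m) :
    r i < 126 ∧ w.foldr chevE7.reflectRoot (r i) = r (next i) ∧
      w.foldr chevE7.reflectRoot (chevE7.neg (r i)) = chevE7.neg (r (next i)) := by
  have h1 := List.all_eq_true.1 h i (List.mem_finRange i)
  simp only [Bool.and_eq_true, decide_eq_true_eq, beq_iff_eq] at h1
  exact h1

/-- **The twisted Frobenius map on the product.** -/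
theorem sg_Psi {w : List ℕ} (hw : ∀ i ∈ w, i < chevE7.rank) (h : Orth r = true) {next prev : Fin m → Fin m}
    (hc : CycB w r next = true) (hnp : ∀ i, next (prev i) = i) (hpn : ∀ i, prev (next i) = i) (x : Fin m → SL(2, KK)) :
    sg w (Psi h x) = Psi h fun i => Matrix.SpecialLinearGroup.map φ2 (x (prev i)) := by
  let S : (Fin m → SL(2, KK)) →* (Fin m → SL(2, KK)) :=
    { toFun := fun x i => Matrix.SpecialLinearGroup.map φ2 (x (prev i))
      map_one' := by funext i; exact map_one _
      map_mul' := fun a b => by funext i; exact map_mul _ _ _ }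
  have key : (sg w).comp (Psi h) = (Psi h).comp S := by
    refine MonoidHom.pi_ext fun i g => ?_
    have h1 : S (Pi.mulSingle i g) = Pi.mulSingle (next i) (Matrix.SpecialLinearGroup.map φ2 g) := by
      funext j
      show Matrix.SpecialLinearGroup.map φ2 ((Pi.mulSingle i g : Fin m → SL(2, KK)) (prev j)) = _
      by_cases hj : j = next i
      · subst hj
        rw [hpn, Pi.mulSingle_eq_same, Pi.mulSingle_eq_same]
      · have h2 : prev j ≠ i := fun h3 => hj (by rw [← h3, hnp])
        rw [Pi.mulSingle_eq_of_ne h2, Pi.mulSingle_eq_of_ne hj, map_one]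
    rw [MonoidHom.comp_apply, MonoidHom.comp_apply, h1, Psi_single, Psi_single]
    obtain ⟨c1, c2, c3⟩ := cyc_spec hc i
    exact sg_ps hw c1 c2 c3 (cyc_spec hc _).1 g
  exact DFunLike.congr_fun key x

theorem Psi_mem (h : Orth r = true) (hr : ∀ i, r i < 126) (x : Fin m → SL(2, KK)) : Psi h x ∈ chevE7.group KK := by
  have h1 : (Psi h).range ≤ chevE7.group KK := by
    have h2 := MonoidHom.noncommPiCoprod_range (ϕ := fun i => psi hE7 KK (r i)) (hcomm := orth_pw h)
    rw [Psi, h2]
    refine iSup_le fun i => ?_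
    rintro _ ⟨g, rfl⟩
    exact psi_mem_group (hr i) g
  exact h1 ⟨x, rfl⟩

end Cyc

/-! ### the diagonal `SL₂(2^m)` -/

section Diag

variable {K : Type v} [Field K] [CharP K 2] (f : K →+* KK)

/-- the conjugates of the embedding -/
noncomputable def fr (i : ℕ) : K →+* KK := f.comp (iterateFrobenius K 2 i)

theorem fr_apply (i : ℕ) (a : K) : fr f i a = f (a ^ 2 ^ i) := rfl

theorem fr_succ (i : ℕ) (a : K) : φ2 (fr f i a) = fr f (i + 1) a := by
  rw [φ2_apply, fr_apply, fr_apply, ← map_pow, ← pow_mul, ← pow_succ]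

theorem fr_zero (a : K) : fr f 0 a = f a := by rw [fr_apply, pow_zero, pow_one]

theorem map_fr (i : ℕ) (g : SL(2, K)) :
    Matrix.SpecialLinearGroup.map φ2 (Matrix.SpecialLinearGroup.map (fr f i) g) =
      Matrix.SpecialLinearGroup.map (fr f (i + 1)) g := by
  apply Subtype.ext
  ext a b
  exact fr_succ f i _

theorem fr_card [Fintype K] {m : ℕ} (hK : Fintype.card K = 2 ^ m) : fr f m = fr f 0 := by
  ext a
  rw [fr_apply, fr_zero, ← hK, FiniteField.pow_card]

/-- the diagonal map -/
noncomputable def dg (m : ℕ) : SL(2, K) →* (Fin m → SL(2, KK)) :=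
  { toFun := fun g i => Matrix.SpecialLinearGroup.map (fr f i) g
    map_one' := by funext i; exact map_one _
    map_mul' := fun a b => by funext i; exact map_mul _ _ _ }

theorem dg_apply (m : ℕ) (g : SL(2, K)) (i : Fin m) : dg f m g i = Matrix.SpecialLinearGroup.map (fr f i) g := rfl

/-- the image of `SL₂(2^m)` -/
noncomputable def uu {m : ℕ} {r : Fin m → ℕ} (h : Orth r = true) : SL(2, K) →* GL chevE7.Idx KK :=
  (Psi h).comp (dg f m)

/-- **The image of `SL₂(2^m)` is fixed.** -/
theorem uu_fix [Fintype K] {m : ℕ} [NeZero m] (hK : Fintype.card K = 2 ^ m) {r : Fin m → ℕ} (h : Orth r = true)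
    {w : List ℕ} (hw : ∀ i ∈ w, i < chevE7.rank) (hc : CycB w r (fun i => i + 1) = true) (g : SL(2, K)) :
    sg w (uu f h g) = uu f h g := by
  have e1 := sg_Psi (prev := fun i => i - 1) hw h hc (fun i => by simp) (fun i => by simp) (dg f m g)
  have e2 : (fun i => Matrix.SpecialLinearGroup.map φ2 (dg f m g (i - 1))) = dg f m g := by
    funext i
    rw [dg_apply, dg_apply, map_fr]
    by_cases hi : i = 0
    · subst hi
      have h1 : ((0 - 1 : Fin m) : ℕ) + 1 = m := by
        have hm : 0 < m := Nat.pos_of_ne_zero (NeZero.ne m)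
        obtain ⟨k, rfl⟩ : ∃ k, m = k + 1 := ⟨m - 1, by omega⟩
        have h2 : ((0 - 1 : Fin (k + 1)) : ℕ) = k := by rw [zero_sub]; exact Fin.coe_neg_one
        rw [h2]
      rw [h1, fr_card f hK]
      rfl
    · have h1 : ((i - 1 : Fin m) : ℕ) + 1 = i := by
        have := Fin.val_sub_one_of_ne_zero hi
        have h2 : (i : ℕ) ≠ 0 := fun h => hi (Fin.ext (by simpa using h))
        omega
      rw [h1]
  rw [e2] at e1
  exact e1

end Diag

end Cfsg.Agent.R2.E72T
end

-- part: R2/E72T/Slt
section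
/-!
# `L₂(128)` in `E₇(2)` (S5934, box T)
-/

set_option autoImplicit false
set_option linter.unusedSectionVars false

namespace Cfsg.Agent.R2.E72T

open Cfsg.Lie Cfsg.Agent.ChevalleyStructure Cfsg.Agent.ChevalleyStructure.Elts
open Cfsg.Agent.ChevalleyStructure.SL2Hom (up lo mem_closure_SL2)
open Cfsg.Agent.Nodes.RGDFoldSL
open Cfsg.Agent.H420.PG
open scoped MatrixGroups

universe v

section Gen

variable {m : ℕ} {r : Fin m → ℕ}

theorem Psi_mem_of (h : Orth r = true) {x : Fin m → SL(2, KK)} (S : Subgroup (GL chevE7.Idx KK))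
    (hS : ∀ i, psi hE7 KK (r i) (x i) ∈ S) : Psi h x ∈ S := by
  unfold Psi
  rw [MonoidHom.noncommPiCoprod_apply]
  exact Subgroup.noncommProd_mem _ _ fun i _ => hS i

variable {K : Type v} [Field K] [CharP K 2] (f : K →+* KK)

/-- Nontriviality, by the action on a root element. -/
theorem uu_up_ne [NeZero m] (h : Orth r = true) (hr : ∀ i, r i < 126) {s c : ℕ}
    (hs : okB chevE7 (r 0) s [(c, 1, 1)] = true) (hc : c < 126) (ho : ∀ i, i ≠ 0 → okB chevE7 (r i) s [] = true) :
    uu f h (up 1) ≠ 1 := by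
  intro h1
  let x : Fin m → SL(2, KK) := dg f m (up 1)
  have hx : ∀ i, x i = up 1 := by
    intro i
    show Matrix.SpecialLinearGroup.map (fr f i) (up 1) = up 1
    rw [map_up, map_one]
  have h2 : x = Pi.mulSingle 0 (up 1) * (x * (Pi.mulSingle 0 (up 1))⁻¹) := by
    funext i
    rw [Pi.mul_apply, Pi.mul_apply, Pi.inv_apply]
    by_cases hi : i = 0
    · subst hi
      rw [Pi.mulSingle_eq_same, hx]
      group
    · rw [Pi.mulSingle_eq_of_ne hi]
      group
  have h3 : Psi h x = xG hE7 (r 0) 1 * Psi h (x * (Pi.mulSingle 0 (up 1))⁻¹) := by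
    conv_lhs => rw [h2]
    rw [map_mul, Psi_single, psi_up hE7 (show r 0 < chevE7.nroots from hr 0)]
  have h4 : Psi h (x * (Pi.mulSingle 0 (up 1))⁻¹) ∈ Subgroup.centralizer {xG hE7 s (1 : KK)} := by
    refine Psi_mem_of h _ fun i => ?_
    rw [Subgroup.mem_centralizer_singleton_iff]
    by_cases hi : i = 0
    · subst hi
      rw [Pi.mul_apply, Pi.inv_apply, Pi.mulSingle_eq_same, hx, mul_inv_cancel, map_one, one_mul, mul_one]
    · rw [Pi.mul_apply, Pi.inv_apply, Pi.mulSingle_eq_of_ne hi, hx, inv_one, mul_one,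
        psi_up hE7 (show r i < chevE7.nroots from hr i)]
      exact (comm_of hE7 (ho i hi) 1 1).eq
  have h5 : Psi h x = 1 := h1
  rw [h3] at h5
  have h6 : Commute (xG hE7 (r 0) (1 : KK)) (xG hE7 s 1) := by
    have h7 : xG hE7 (r 0) (1 : KK) = (Psi h (x * (Pi.mulSingle 0 (up 1))⁻¹))⁻¹ := eq_inv_of_mul_eq_one_left h5
    rw [h7]
    exact (show Commute _ _ from Subgroup.mem_centralizer_singleton_iff.1 h4).inv_left
  have h8 := rel (F := KK) hE7 hs 1 1
  rw [List.map_cons, List.map_nil, List.prod_cons, List.prod_nil, mul_one, h6.eq] at h8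
  have h9 : xG hE7 c ((1 : KK) ^ 1 * 1 ^ 1) = 1 := by
    have := mul_left_cancel (a := xG hE7 s (1 : KK) * xG hE7 (r 0) 1) (b := 1) (c := xG hE7 c ((1 : KK) ^ 1 * 1 ^ 1))
      (by rw [mul_one]; exact h8)
    exact this.symm
  rw [xG_eq_one_iff hE7 (show c < chevE7.nroots from hc)] at h9
  simp at h9

theorem uu_injective [Fintype K] (h4 : 4 ≤ Fintype.card K) (h : Orth r = true) (hne : uu f h (up 1) ≠ 1) :
    Function.Injective (uu f h) := by
  have hs : IsSimpleGroup SL(2, K) := H320.Kill.simple_sl (CharTwo.two_eq_zero) (by rwa [Nat.card_eq_fintype_card])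
  rw [← MonoidHom.ker_eq_bot_iff]
  rcases hs.eq_bot_or_eq_top_of_normal _ (MonoidHom.normal_ker (uu f h)) with h1 | h1
  · exact h1
  · exact absurd (MonoidHom.mem_ker.1 (h1 ▸ Subgroup.mem_top (up 1))) hne

end Gen

/-! ### `L₂(128)` -/

/-- the word of the Weyl group element of order 7 -/
def w7 : List ℕ := [4, 3, 2, 0, 6, 5]

/-- seven orthogonal roots -/
def r7 : Fin 7 → ℕ := ![79, 84, 107, 92, 115, 111, 101]

theorem w7_lt : ∀ i ∈ w7, i < chevE7.rank := by decide +kernel

theorem orth7 : Orth r7 = true := by decide +kernel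

theorem cyc7 : CycB w7 r7 (fun i => i + 1) = true := by decide +kernel

theorem lt7 : ∀ i, r7 i < 126 := by decide +kernel

theorem act7 : okB chevE7 (r7 0) 112 [(119, 1, 1)] = true := by decide +kernel

theorem nact7 : ∀ i, i ≠ 0 → okB chevE7 (r7 i) 112 [] = true := by decide +kernel

theorem charTwo_of_card {K : Type v} [Field K] [Fintype K] {m : ℕ} (hK : Fintype.card K = 2 ^ m) : CharP K 2 := by
  have : Fact (Nat.Prime 2) := ⟨Nat.prime_two⟩
  exact charP_of_card_eq_prime_pow hK

/-- an embedding in the algebraic closure -/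
theorem exists_emb (K : Type v) [Field K] [Finite K] [CharP K 2] : Nonempty (K →+* KK) := by
  let _ : Algebra (ZMod 2) K := ZMod.algebra K 2
  exact ⟨(IsAlgClosed.lift (R := ZMod 2) (M := KK) (S := K)).toRingHom⟩

/-- a homomorphism to the fixed points gives a homomorphism to `E₇(2)` -/
theorem exists_hom_of {X : Type v} [Group X] {w : List ℕ} {θ : X →* GL chevE7.Idx KK}
    (h : ∀ x, θ x ∈ PW w) (hi : Function.Injective θ) :
    ∃ η : X →* ↥(chevE7.group (ZMod 2)), Function.Injective η := by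
  obtain ⟨e⟩ := isoW w
  refine ⟨e.toMonoidHom.comp (θ.codRestrict (PW w) h), ?_⟩
  intro a b hab
  have h1 := e.injective (show e (θ.codRestrict (PW w) h a) = e (θ.codRestrict (PW w) h b) from hab)
  exact hi (congrArg Subtype.val h1)

/-- **`L₂(128)` embeds in `E₇(2)`.** -/
theorem exists_l2_128 {K : Type v} [Field K] [Fintype K] (hK : Fintype.card K = 128) :
    ∃ θ : SL(2, K) →* ↥(chevE7.group (ZMod 2)), Function.Injective θ := by
  have hK' : Fintype.card K = 2 ^ 7 := by rw [hK]; norm_num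
  have hc : CharP K 2 := charTwo_of_card hK'
  obtain ⟨f⟩ := exists_emb K
  refine exists_hom_of (w := w7) (θ := uu f orth7) (fun x => ?_)
    (uu_injective f (by rw [hK]; norm_num) orth7 (uu_up_ne f orth7 lt7 act7 (by norm_num) nact7))
  rw [mem_PW]
  exact ⟨Psi_mem (r := r7) orth7 lt7 (dg f 7 x), uu_fix f hK' orth7 w7_lt cyc7 x⟩

end Cfsg.Agent.R2.E72T
end

private theorem dce_8585cc7f55b4 : _root_.True := by
  try have : _root_.True := by simp only [_root_.Cfsg.Agent.R2.E72T.Psi.eq_1]
  try have : _root_.True := by simp only [_root_.Cfsg.Agent.R2.E72T.sg.eq_1]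
  try have : _root_.True := by simp only [_root_.Cfsg.Agent.R2.E72T.φ2.eq_1]
  exact _root_.True.intro
end

-- part: R2/E72T/D4
section
set_option linter.all false
open scoped Cfsg.Agent.FastGrp

/-!
# The subsystem `D₄` of `E₇` in characteristic 2 (S5934, box T)
-/

set_option autoImplicit false
set_option linter.unusedSectionVars false

namespace Cfsg.Agent.R2.E72T

open Cfsg.Lie Cfsg.Agent.ChevalleyStructure Cfsg.Agent.ChevalleyStructure.Elts
open Cfsg.Agent.ChevalleyStructure.StBasic Cfsg.Agent.ChevalleyStructure.StTorus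
open Cfsg.Agent.H420.PG

universe u v

/-- the roots of the subsystem `D₄` -/
def l4 : List ℕ := [38, 41, 45, 42, 46, 47, 50, 55, 51, 56, 59, 52, 73, 66, 69, 74, 70, 75, 78, 79, 83, 80, 84, 87]

/-- `D₄ → E₇` on indices -/
def τ4 (r : ℕ) : ℕ := l4.getD r 0

theorem sub4 : SubOK chevD4 chevE7 τ4 where
  row := by (delta Cfsg.Agent.H420.PG.odd3 Cfsg.Agent.H420.PG.okB Cfsg.Agent.R2.E72T.chkRow; rewrite [Cfsg.Agent.ChevFast.E7.commTerms, Cfsg.Agent.ChevFast.E7.neg]; decide +kernel)

theorem goodD4_0 : GoodSimple chevD4 0 :=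
  ⟨by decide +kernel, ⟨6, 22, 1, by decide +kernel⟩, ⟨1, 17, 1, by decide +kernel⟩, by decide +kernel⟩

theorem goodD4_1 : GoodSimple chevD4 1 :=
  ⟨by decide +kernel, ⟨1, 23, -1, by decide +kernel⟩, ⟨0, 22, -1, by decide +kernel⟩, by decide +kernel⟩

theorem goodD4_2 : GoodSimple chevD4 2 :=
  ⟨by decide +kernel, ⟨3, 22, -1, by decide +kernel⟩, ⟨1, 20, -1, by decide +kernel⟩, by decide +kernel⟩

theorem goodD4_3 : GoodSimple chevD4 3 :=
  ⟨by decide +kernel, ⟨2, 22, -1, by decide +kernel⟩, ⟨1, 21, -1, by decide +kernel⟩, by decide +kernel⟩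

theorem simple_ltD4 : ∀ i < chevD4.rank, chevD4.simple i < chevD4.nroots := by decide +kernel

theorem goodD4 (i : ℕ) (hi : i < chevD4.rank) : GoodSimple chevD4 i := by
  change i < 4 at hi
  interval_cases i
  · exact goodD4_0
  · exact goodD4_1
  · exact goodD4_2
  · exact goodD4_3

theorem exists_PhiD4 (K : Type v) [Field K] :
    ∃ Φ : (Fin chevD4.rank → Kˣ) →* chevD4.SteinbergGroup K,
      Subgroup.center (chevD4.SteinbergGroup K) ≤ Φ.range ∧
      (∀ t, Φ t ∈ Subgroup.center (chevD4.SteinbergGroup K) ↔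
        ∀ s < chevD4.nroots, ∏ i : Fin chevD4.rank, t i ^ chevD4.cartan i s = 1) := by
  have hD7 : chevD4 ∈ [chevG2, chevB2, chevD4, chevF4, chevE6, chevE7, chevE8] := by simp
  obtain ⟨θ, -, hker, hθ⟩ := Cfsg.Agent.S1077.result (K := K) chevD4 hD7
  have hconj : ∀ (i s : ℕ), i < chevD4.rank → s < chevD4.nroots → ∀ (c : K), c ≠ 0 → ∀ t : K,
      chevD4.hMat K (chevD4.simple i) c * chevD4.x K s t =
        chevD4.x K s (c ^ (chevD4.cartan i s) * t) * chevD4.hMat K (chevD4.simple i) c :=
    fun i s hi hsn c hc t => Cfsg.Agent.S1032.result chevD4 hD7 i s hi hsn c hc t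
  have hdiag : ∀ (i : ℕ), i < chevD4.rank → ∀ (c : K), c ≠ 0 → chevD4.hMat K (chevD4.simple i) c =
      Matrix.diagonal (Sum.elim (fun _ => (1 : K)) (fun s : Fin chevD4.nroots => c ^ (chevD4.cartan i s))) :=
    fun i hi c hc => Cfsg.Agent.S1033.result chevD4 hD7 i hi c hc
  have hcomm := pairwise_commute θ hker hθ hconj simple_ltD4 (fun i j hi _ _ => Or.inl (goodD4 i hi))
  refine ⟨Phi simple_ltD4 hcomm, ?_, ?_⟩
  · rw [← hker]
    exact (Cfsg.Agent.S1097.result chevD4 hD7 θ hθ).trans (closure_le_range_Phi simple_ltD4 hcomm)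
  · intro t
    rw [← hker]
    exact Phi_mem_ker_iff θ hθ hdiag simple_ltD4 hcomm t

/-- twice the inverse Cartan matrix -/
def bD4 : Fin 4 → Fin 4 → ℤ := ![![2, 2, 1, 1], ![2, 4, 2, 2], ![1, 2, 2, 1], ![1, 2, 1, 2]]

theorem bD4_spec : ∀ i k : Fin 4, ∑ j : Fin 4, chevD4.cartan i (chevD4.simple j) * bD4 j k =
    if (i : ℕ) = (k : ℕ) then 2 else 0 := by
  decide +kernel

/-- **In characteristic 2 the Steinberg group of type `D₄` has trivial centre.** -/
theorem center_stD4 (K : Type v) [Field K] [CharP K 2] : Subgroup.center (chevD4.SteinbergGroup K) = ⊥ := by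
  obtain ⟨Φ, hle, hiff⟩ := exists_PhiD4 K
  rw [eq_bot_iff]
  intro z hz
  obtain ⟨t, rfl⟩ := hle hz
  rw [hiff] at hz
  have ht : t = 1 := by
    funext k
    have h1 : ∏ i : Fin chevD4.rank, t i ^ (if (i : ℕ) = (k : ℕ) then (2 : ℤ) else 0) = 1 :=
      eval_eq_one (n := chevD4.rank) (m := chevD4.rank)
        (fun i j => chevD4.cartan i (chevD4.simple j)) (fun j => bD4 j k)
        (fun i => if (i : ℕ) = (k : ℕ) then 2 else 0) (fun i => bD4_spec i k) t
        (fun j => hz (chevD4.simple j) (simple_ltD4 j j.2))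
    rw [Finset.prod_eq_single k] at h1
    · rw [if_pos rfl] at h1
      have h2 : ((t k : Kˣ) : K) ^ 2 = 1 := by
        have := congrArg Units.val h1
        rw [Units.val_one, Units.val_zpow_eq_zpow_val] at this
        exact_mod_cast this
      apply Units.ext
      have h3 : (((t k : Kˣ) : K) - 1) ^ 2 = 0 := by
        rw [sub_sq, h2, one_pow, mul_one]
        have h4 : (2 : K) = 0 := CharTwo.two_eq_zero
        rw [h4, zero_mul, sub_zero, one_add_one_eq_two, h4]
      exact sub_eq_zero.1 (pow_eq_zero_iff two_ne_zero |>.1 h3)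
    · intro i _ hi
      rw [if_neg (fun h => hi (Fin.ext h)), zpow_zero]
    · intro h
      exact absurd (Finset.mem_univ _) h
  rw [ht, map_one]
  exact one_mem _

theorem hD4 : InList chevD4 := by simp

/-- **In characteristic 2 the Steinberg group of type `D₄` is the Chevalley group.** -/
theorem thetaD4_injective (K : Type v) [Field K] [CharP K 2] : Function.Injective (StTheta.thetaGL hD4 K) := by
  rw [← MonoidHom.ker_eq_bot_iff, eq_bot_iff]
  have h1 := Cfsg.Agent.H65.MultE.ker_theta (K := K) hD4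
  rw [center_stD4] at h1
  intro x hx
  have h2 : x ∈ (StTheta.theta hD4 K).ker := by
    rw [MonoidHom.mem_ker]
    apply Subtype.ext
    rw [StTheta.coe_theta]
    exact hx
  rw [h1] at h2
  exact h2

section Hom

variable {K : Type v} [Field K] [CharP K 2] {k : Type u} [Field k] [CharP k 2] (f : K →+* k)

theorem simple_stD4 (K : Type v) [Field K] [CharP K 2] : IsSimpleGroup (chevD4.SteinbergGroup K) := by
  have h1 := (Cfsg.Agent.S1054.result (F := K) chevD4 (by simp)).1
  have hb : Function.Bijective (StTheta.theta hD4 K) := by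
    refine ⟨?_, StTheta.theta_surjective hD4⟩
    intro a b hab
    apply thetaD4_injective K
    exact congrArg Subtype.val hab
  exact (MulEquiv.isSimpleGroup_congr (MulEquiv.ofBijective _ hb)).2 h1

/-- the subsystem homomorphism of `D₄` -/
noncomputable def Θ4 : chevD4.SteinbergGroup K →* GL chevE7.Idx k := subHom sub4 hE7 f

theorem Θ4_injective : Function.Injective (Θ4 (k := k) f) := by
  have hs := simple_stD4 K
  rw [← MonoidHom.ker_eq_bot_iff]
  rcases hs.eq_bot_or_eq_top_of_normal _ (MonoidHom.normal_ker (Θ4 (k := k) f)) with h1 | h1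
  · exact h1
  · exfalso
    have h2 : chevD4.stGen K 0 1 ∈ (Θ4 (k := k) f).ker := by rw [h1]; exact Subgroup.mem_top _
    rw [MonoidHom.mem_ker, Θ4, subHom_stGen sub4 hE7 f (by decide), map_one,
      xG_eq_one_iff hE7 (by decide)] at h2
    exact one_ne_zero h2

end Hom

end Cfsg.Agent.R2.E72T

private theorem dce_9379cd6bfe7a : _root_.True := by
  try have : _root_.True := by simp only [_root_.Cfsg.Agent.R2.E72T.Θ4.eq_1]
  exact _root_.True.intro
end

-- part: R2/E72T/T9tab
section
prune_inst 0x20000000000000000000000000000000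
set_option linter.all false

/-!
# `L₂(8) × ³D₄(2)` in `E₇(2)`: tables (S5934, box T9)
-/

set_option autoImplicit false
set_option linter.unusedSectionVars false

namespace Cfsg.Agent.R2.E72T

open Cfsg.Lie Cfsg.Agent.ChevalleyStructure Cfsg.Agent.ChevalleyStructure.Elts
open Cfsg.Agent.H420.PG

/-- the word of the Weyl group element of order 3 -/
def w3 : List ℕ := [5, 4, 3, 1, 2, 0, 3, 2, 4, 3, 1, 5, 4, 3, 2, 0]

/-- three orthogonal roots -/
def r3 : Fin 3 → ℕ := ![63, 92, 125]

theorem w3_lt : ∀ i ∈ w3, i < chevE7.rank := by decide +kernel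

theorem orth3 : Orth r3 = true := by (delta Cfsg.Agent.H420.PG.odd3 Cfsg.Agent.H420.PG.okB Cfsg.Agent.H420.PG.okP Cfsg.Agent.R2.E72T.Orth; rewrite [Cfsg.Agent.ChevFast.E7.commTerms, Cfsg.Agent.ChevFast.E7.neg]; decide +kernel)

theorem cyc3 : CycB w3 r3 (fun i => i + 1) = true := by (delta Cfsg.Agent.R2.E72T.CycB Cfsg.Lie.ChevalleyDatum.chainRoot Cfsg.Lie.ChevalleyDatum.reflectRoot; rewrite [Cfsg.Agent.ChevFast.E7.cartan, Cfsg.Agent.ChevFast.E7.chainEntry, Cfsg.Agent.ChevFast.E7.neg]; decide +kernel)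

theorem lt3 : ∀ i, r3 i < 126 := by decide +kernel

theorem act3 : okB chevE7 (r3 0) 64 [(65, 1, 1)] = true := by decide +kernel

theorem nact3 : ∀ i, i ≠ 0 → okB chevE7 (r3 i) 64 [] = true := by (delta Cfsg.Agent.H420.PG.odd3 Cfsg.Agent.H420.PG.okB; rewrite [Cfsg.Agent.ChevFast.E7.commTerms, Cfsg.Agent.ChevFast.E7.neg]; decide +kernel)

theorem w3_pow : ∀ s < 126, (fun s => w3.foldr chevE7.reflectRoot s)^[3] s = s := by (delta Cfsg.Lie.ChevalleyDatum.chainRoot Cfsg.Lie.ChevalleyDatum.reflectRoot; rewrite [Cfsg.Agent.ChevFast.E7.cartan, Cfsg.Agent.ChevFast.E7.chainEntry, Cfsg.Agent.ChevFast.E7.neg]; decide +kernel)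

theorem w3_D4 : ([18, 14, 13, 12, 5, 9, 10, 11].map τ4).map (fun s => w3.foldr chevE7.reflectRoot s) =
    [13, 14, 12, 18, 10, 9, 11, 5].map τ4 := by (delta Cfsg.Lie.ChevalleyDatum.chainRoot Cfsg.Lie.ChevalleyDatum.reflectRoot; rewrite [Cfsg.Agent.ChevFast.E7.cartan, Cfsg.Agent.ChevFast.E7.chainEntry, Cfsg.Agent.ChevFast.E7.neg]; decide +kernel)

/-- the subsystem `D₄` is orthogonal to the three roots -/
theorem orthD4 : ∀ i : Fin 3, ∀ r < chevD4.nroots, okQ chevE7 (r3 i) (τ4 r) = true := by (delta Cfsg.Agent.H420.PG.odd3 Cfsg.Agent.H420.PG.okB Cfsg.Agent.H420.PG.okQ; rewrite [Cfsg.Agent.ChevFast.E7.commTerms, Cfsg.Agent.ChevFast.E7.neg]; decide +kernel)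

/-- the outer nodes are orthogonal -/
theorem outD4 : (okB chevE7 (τ4 18) (τ4 13) [] && (okB chevE7 (τ4 18) (τ4 12) [] && (okB chevE7 (τ4 13) (τ4 12) [] &&
    (okB chevE7 (τ4 5) (τ4 10) [] && (okB chevE7 (τ4 5) (τ4 11) [] && okB chevE7 (τ4 10) (τ4 11) []))))) = true := by
  (delta Cfsg.Agent.H420.PG.odd3 Cfsg.Agent.H420.PG.okB; rewrite [Cfsg.Agent.ChevFast.E7.commTerms, Cfsg.Agent.ChevFast.E7.neg]; decide +kernel)

end Cfsg.Agent.R2.E72T
end

-- part: R2/E72T/Gen
section
set_option linter.all false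
open scoped Cfsg.Agent.FastGrp

/-!
# The fixed points of a twisted Frobenius map in `E₇(K)`, `K` finite of characteristic 2 (S5934, box T)

* `sgk k w` : the twisted Frobenius map on `GL` over a field `k` of characteristic 2;
* `isoPk` : if `w ^ m = 1`, `|K| = 2 ^ m`, then the fixed points of `sgk K w` in `E₇(K)` form the group `E₇(2)`.
-/

set_option autoImplicit false
set_option linter.unusedSectionVars false

namespace Cfsg.Agent.R2.E72T

open Cfsg.Lie Cfsg.Agent.ChevalleyStructure Cfsg.Agent.ChevalleyStructure.Elts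
open Cfsg.Agent.ChevalleyStructure.SL2Hom (up lo mem_closure_SL2)
open Cfsg.Agent.Nodes.RGDFoldSL Cfsg.Agent.Nodes.RGDChev
open Cfsg.Agent.GpExc.Field (glMap coe_glMap glMap_xG glMap_nG glMap_injective emb emb_injective coe_emb glMap_mem)
open Cfsg.Agent.H420.PG
open scoped MatrixGroups

universe u v

section K

variable {k : Type u} [Field k] [CharP k 2]

/-- the Frobenius map -/
noncomputable abbrev φk (k : Type u) [Field k] [CharP k 2] : k →+* k := iterateFrobenius k 2 1

theorem φk_apply (a : k) : φk k a = a ^ 2 := by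
  rw [φk, iterateFrobenius_def, pow_one]

/-- the twisted Frobenius map belonging to a word -/
noncomputable def sgk (k : Type u) [Field k] [CharP k 2] (w : List ℕ) : GL chevE7.Idx k →* GL chevE7.Idx k :=
  tsig chevE7 (φk k) (nwd hE7 w)

/-- its fixed points -/
noncomputable def Pk (k : Type u) [Field k] [CharP k 2] (w : List ℕ) : Subgroup (GL chevE7.Idx k) :=
  PF chevE7 (φk k) (nwd hE7 w)

theorem mem_Pk {w : List ℕ} {g : GL chevE7.Idx k} : g ∈ Pk k w ↔ g ∈ chevE7.group k ∧ sgk k w g = g := Iff.rfl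

theorem sgk_x {w : List ℕ} (hw : ∀ i ∈ w, i < chevE7.rank) {s : ℕ} (hs : s < 126) (t : k) :
    sgk k w (xG hE7 s t) = xG hE7 (w.foldr chevE7.reflectRoot s) (t ^ 2) := by
  rw [sgk, tsig_apply, glMap_xG, ← φk_apply]
  exact (nwd_conj hE7 hw (show s < chevE7.nroots from hs) _).1

theorem sgk_ps {w : List ℕ} (hw : ∀ i ∈ w, i < chevE7.rank) {r s : ℕ} (hr : r < 126)
    (h1 : w.foldr chevE7.reflectRoot r = s) (h2 : w.foldr chevE7.reflectRoot (chevE7.neg r) = chevE7.neg s)
    (hs : s < 126) (g : SL(2, k)) :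
    sgk k w (psi hE7 k r g) = psi hE7 k s (Matrix.SpecialLinearGroup.map (φk k) g) := by
  subst h1
  exact tsig_psi (ρ := w.foldr chevE7.reflectRoot) hE7 (show r < chevE7.nroots from hr)
    (show w.foldr chevE7.reflectRoot r < chevE7.nroots from hs) h2.symm
    (fun t => by rw [sgk_x hw hr, φk_apply]) (fun t => by rw [sgk_x hw (neg_lt7 hr), φk_apply]) g

/-! ### the order of `nwd w` -/

theorem nwd_pow_conj {w : List ℕ} (hw : ∀ i ∈ w, i < chevE7.rank) (m : ℕ) {s : ℕ} (hs : s < 126) (t : k) :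
    nwd hE7 w ^ m * xG hE7 s t * (nwd hE7 w ^ m)⁻¹ = xG hE7 ((fun s => w.foldr chevE7.reflectRoot s)^[m] s) t ∧
      (fun s => w.foldr chevE7.reflectRoot s)^[m] s < 126 := by
  induction m generalizing s with
  | zero => exact ⟨by simp, hs⟩
  | succ m ih =>
    have h1 := nwd_conj (F := k) hE7 hw (show s < chevE7.nroots from hs) t
    obtain ⟨h2, h3⟩ := ih (s := w.foldr chevE7.reflectRoot s) h1.2
    rw [Function.iterate_succ_apply]
    refine ⟨?_, h3⟩
    rw [← h2, ← h1.1, pow_succ]
    group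

theorem comm_of_fix {n : GL chevE7.Idx k} (h : ∀ s < 126, ∀ t : k, n * xG hE7 s t * n⁻¹ = xG hE7 s t)
    {g : GL chevE7.Idx k} (hg : g ∈ chevE7.group k) : n * g = g * n := by
  have h1 : chevE7.group k ≤ Subgroup.centralizer {n} := by
    rw [group_le_iff hE7]
    intro r hr t
    rw [Subgroup.mem_centralizer_singleton_iff]
    have h2 := h r hr t
    rw [mul_inv_eq_iff_eq_mul] at h2
    exact h2.symm
  exact (Subgroup.mem_centralizer_singleton_iff.1 (h1 hg)).symm

theorem nwd_pow_eq_one {w : List ℕ} (hw : ∀ i ∈ w, i < chevE7.rank) {m : ℕ}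
    (hm : ∀ s < 126, (fun s => w.foldr chevE7.reflectRoot s)^[m] s = s) : (nwd hE7 w : GL chevE7.Idx k) ^ m = 1 := by
  have hmem : (nwd hE7 w : GL chevE7.Idx k) ^ m ∈ chevE7.group k := pow_mem (nwd_mem hE7 w) m
  have h1 : (⟨nwd hE7 w ^ m, hmem⟩ : ↥(chevE7.group k)) ∈ Subgroup.center ↥(chevE7.group k) := by
    rw [Subgroup.mem_center_iff]
    rintro ⟨g, hg⟩
    apply Subtype.ext
    refine (comm_of_fix (fun s hs t => ?_) hg).symm
    have h2 := (nwd_pow_conj (k := k) hw m hs t).1
    rwa [hm s hs] at h2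
  rw [Cfsg.Agent.H904.E7Main.center_eq_bot k, Subgroup.mem_bot] at h1
  exact congrArg Subtype.val h1

theorem glMap_nwd {K : Type v} [Field K] [CharP K 2] (f : K →+* k) (w : List ℕ) :
    glMap chevE7 f (nwd hE7 w) = nwd hE7 w := by
  unfold nwd
  rw [map_list_prod, List.map_map]
  congr 1
  refine List.map_congr_left fun i _ => ?_
  rw [Function.comp_apply]
  have h1 := glMap_nG hp7 f (chevE7.simple i) 1
  rw [map_one] at h1
  exact h1

theorem glMap_glMap {K : Type v} [Field K] {L : Type*} [Field L] (f : K →+* k) (g : L →+* K) (x : GL chevE7.Idx L) :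
    glMap chevE7 f (glMap chevE7 g x) = glMap chevE7 (f.comp g) x := by
  apply Units.ext
  rw [coe_glMap, coe_glMap, coe_glMap]
  ext i j
  rfl

theorem glMap_congr {K : Type v} [Field K] {f g : K →+* k} (h : ∀ a, f a = g a) (x : GL chevE7.Idx K) :
    glMap chevE7 f x = glMap chevE7 g x := by
  have : f = g := RingHom.ext h
  rw [this]

theorem sgk_iterate {w : List ℕ} (m : ℕ) (g : GL chevE7.Idx k) :
    (sgk k w)^[m] g = nwd hE7 w ^ m * glMap chevE7 (iterateFrobenius k 2 m) g * (nwd hE7 w ^ m)⁻¹ := by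
  induction m with
  | zero =>
    rw [Function.iterate_zero_apply, pow_zero, one_mul, inv_one, mul_one]
    apply Units.ext
    rw [coe_glMap]
    ext i j
    show _ = iterateFrobenius k 2 0 _
    rw [iterateFrobenius_def, pow_zero, pow_one]
  | succ m ih =>
    rw [Function.iterate_succ_apply', ih, sgk, tsig_apply, map_mul, map_mul, map_inv, map_pow, glMap_nwd,
      glMap_glMap, glMap_congr (g := iterateFrobenius k 2 (m + 1)) (fun a => by
        rw [RingHom.comp_apply, iterateFrobenius_def, iterateFrobenius_def, iterateFrobenius_def, ← pow_mul,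
          ← pow_add]), pow_succ']
    group

end K

/-! ### the isomorphism -/

section Iso

variable {K : Type} [Field K] [CharP K 2] [Fintype K]

theorem glMap_sgk (f : K →+* KK) (w : List ℕ) (g : GL chevE7.Idx K) :
    glMap chevE7 f (sgk K w g) = sg w (glMap chevE7 f g) := by
  rw [sgk, tsig_apply, map_mul, map_mul, map_inv, glMap_nwd, glMap_glMap, sg, tsig_apply, glMap_glMap]
  congr 2
  refine glMap_congr (fun a => ?_) g
  rw [RingHom.comp_apply, RingHom.comp_apply, iterateFrobenius_def, iterateFrobenius_def, map_pow]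

theorem exists_sqrt (a : K) : ∃ b : K, b ^ 2 = a := by
  obtain ⟨b, hb⟩ := (frobenius_bijective K 2).2 a
  exact ⟨b, by rw [← hb, frobenius_def]⟩
where
  frobenius_bijective (K : Type) [Field K] [Finite K] (p : ℕ) [Fact p.Prime] [CharP K p] :
      Function.Bijective (frobenius K p) := (Finite.injective_iff_bijective).1 (frobenius_inj K p)

/-- **`E₇(2)` in `E₇(K)`.** -/
theorem isoPk {m : ℕ} (hm : 0 < m) (hK : Fintype.card K = 2 ^ m) {w : List ℕ} (hw : ∀ i ∈ w, i < chevE7.rank)
    (hwm : ∀ s < 126, (fun s => w.foldr chevE7.reflectRoot s)^[m] s = s) :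
    Nonempty (↥(Pk K w) ≃* ↥(chevE7.group (ZMod 2))) := by
  obtain ⟨f⟩ := exists_emb K
  obtain ⟨e⟩ := isoW w
  have hη : ∀ g : ↥(Pk K w), glMap chevE7 f (g : GL chevE7.Idx K) ∈ PW w := by
    intro g
    obtain ⟨h1, h2⟩ := mem_Pk.1 g.2
    rw [mem_PW]
    exact ⟨glMap_mem hE7 f h1, by rw [← glMap_sgk, h2]⟩
  let η : ↥(Pk K w) →* ↥(PW w) := ((glMap chevE7 f).comp (Pk K w).subtype).codRestrict (PW w) hη
  have hηi : Function.Injective η := by
    intro a b hab
    exact Subtype.ext (glMap_injective chevE7 f (congrArg Subtype.val hab))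
  have hηs : Function.Surjective η := by
    rintro ⟨y, hy⟩
    obtain ⟨hy1, hy2⟩ := mem_PW.1 hy
    have h1 : (sgk KK w)^[m] y = y := Function.iterate_fixed hy2 m
    rw [sgk_iterate, nwd_pow_eq_one hw hwm, one_mul, inv_one, mul_one] at h1
    have h2 : Cfsg.Agent.H129.TorusUntw.phi chevE7 KK 2 m ⟨y, hy1⟩ = ⟨y, hy1⟩ := by
      apply Subtype.ext
      rw [Cfsg.Agent.H129.TorusUntw.coe_phi]
      exact h1
    obtain ⟨x, hx⟩ := Cfsg.Agent.H129.TorusUntw.fix_range hp7 CoxeterMatrix.E₇.toCoxeterSystem f hK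
      Cfsg.Agent.H129.TorusChar.invC_E7 two_ne_zero exists_sqrt h2
    have h3 : glMap chevE7 f (x : GL chevE7.Idx K) = y := congrArg Subtype.val hx
    have h4 : (x : GL chevE7.Idx K) ∈ Pk K w := by
      rw [mem_Pk]
      refine ⟨x.2, glMap_injective chevE7 f ?_⟩
      rw [glMap_sgk, h3]
      exact hy2
    exact ⟨⟨x, h4⟩, Subtype.ext h3⟩
  exact ⟨(MulEquiv.ofBijective η ⟨hηi, hηs⟩).trans e⟩

end Iso

end Cfsg.Agent.R2.E72T

private theorem dce_c861ce794bc5 : _root_.True := by
  try have : _root_.True := by simp only [_root_.Cfsg.Agent.R2.E72T.sgk.eq_1]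
  try have : _root_.True := by simp only [_root_.Cfsg.Agent.R2.E72T.φk.eq_1]
  exact _root_.True.intro
end

-- part: R2/E72T/Cyc
section
set_option linter.all false
open scoped Cfsg.Agent.FastGrp

/-!
# Products of conjugate root `SL₂`s fixed by a twisted Frobenius map, over any field of characteristic 2 (S5934, box T)
-/

set_option autoImplicit false
set_option linter.unusedSectionVars false

namespace Cfsg.Agent.R2.E72T

open Cfsg.Lie Cfsg.Agent.ChevalleyStructure Cfsg.Agent.ChevalleyStructure.Elts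
open Cfsg.Agent.ChevalleyStructure.SL2Hom (up lo mem_closure_SL2)
open Cfsg.Agent.Nodes.RGDFoldSL
open Cfsg.Agent.GpExc.Field (glMap coe_glMap glMap_xG)
open Cfsg.Agent.H420.PG
open scoped MatrixGroups

universe u v

/-! ### products -/

section Cyc

variable {k : Type u} [Field k] [CharP k 2] {m : ℕ} (r : Fin m → ℕ)

variable {r}

theorem orthk_comm (h : Orth r = true) {i j : Fin m} (hij : i ≠ j) (g g' : SL(2, k)) :
    Commute (psi hE7 k (r i) g) (psi hE7 k (r j) g') := by
  have h1 := List.all_eq_true.1 (List.all_eq_true.1 h i (List.mem_finRange i)) j (List.mem_finRange j)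
  rw [Bool.or_eq_true] at h1
  rcases h1 with h1 | h1
  · rw [beq_iff_eq] at h1
    exact absurd h1 hij
  · exact psi_comm_psi hE7 h1 g g'

theorem orthk_pw (h : Orth r = true) :
    Pairwise fun i j => ∀ (x y : SL(2, k)), Commute ((psi hE7 k (r i)) x) ((psi hE7 k (r j)) y) :=
  fun _ _ hij x y => orthk_comm h hij x y

/-- the product of the root `SL₂`s -/
noncomputable def Psik (h : Orth r = true) : (Fin m → SL(2, k)) →* GL chevE7.Idx k :=
  MonoidHom.noncommPiCoprod (fun i => psi hE7 k (r i)) (orthk_pw h)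

theorem Psik_single (h : Orth r = true) (i : Fin m) (g : SL(2, k)) :
    Psik h (Pi.mulSingle i g) = psi hE7 k (r i) g :=
  MonoidHom.noncommPiCoprod_mulSingle _ (hcomm := orthk_pw h) i g

/-- **The twisted Frobenius map on the product.** -/
theorem sgk_Psik {w : List ℕ} (hw : ∀ i ∈ w, i < chevE7.rank) (h : Orth r = true) {next prev : Fin m → Fin m}
    (hc : CycB w r next = true) (hnp : ∀ i, next (prev i) = i) (hpn : ∀ i, prev (next i) = i) (x : Fin m → SL(2, k)) :
    sgk k w (Psik h x) = Psik h fun i => Matrix.SpecialLinearGroup.map (φk k) (x (prev i)) := by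
  let S : (Fin m → SL(2, k)) →* (Fin m → SL(2, k)) :=
    { toFun := fun x i => Matrix.SpecialLinearGroup.map (φk k) (x (prev i))
      map_one' := by funext i; exact map_one _
      map_mul' := fun a b => by funext i; exact map_mul _ _ _ }
  have key : (sgk k w).comp (Psik h) = (Psik h).comp S := by
    refine MonoidHom.pi_ext fun i g => ?_
    have h1 : S (Pi.mulSingle i g) = Pi.mulSingle (next i) (Matrix.SpecialLinearGroup.map (φk k) g) := by
      funext j
      show Matrix.SpecialLinearGroup.map (φk k) ((Pi.mulSingle i g : Fin m → SL(2, k)) (prev j)) = _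
      by_cases hj : j = next i
      · subst hj
        rw [hpn, Pi.mulSingle_eq_same, Pi.mulSingle_eq_same]
      · have h2 : prev j ≠ i := fun h3 => hj (by rw [← h3, hnp])
        rw [Pi.mulSingle_eq_of_ne h2, Pi.mulSingle_eq_of_ne hj, map_one]
    rw [MonoidHom.comp_apply, MonoidHom.comp_apply, h1, Psik_single, Psik_single]
    obtain ⟨c1, c2, c3⟩ := cyc_spec hc i
    exact sgk_ps hw c1 c2 c3 (cyc_spec hc _).1 g
  exact DFunLike.congr_fun key x

theorem Psik_mem (h : Orth r = true) (hr : ∀ i, r i < 126) (x : Fin m → SL(2, k)) : Psik h x ∈ chevE7.group k := by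
  have h1 : (Psik h).range ≤ chevE7.group k := by
    have h2 := MonoidHom.noncommPiCoprod_range (ϕ := fun i => psi hE7 k (r i)) (hcomm := orthk_pw h)
    rw [Psik, h2]
    refine iSup_le fun i => ?_
    rintro _ ⟨g, rfl⟩
    exact psi_mem_group (hr i) g
  exact h1 ⟨x, rfl⟩

end Cyc

/-! ### the diagonal `SL₂(2^m)` -/

section Diag

variable {k : Type u} [Field k] [CharP k 2] {K : Type v} [Field K] [CharP K 2] (f : K →+* k)

/-- the conjugates of the embedding -/
noncomputable def frk (i : ℕ) : K →+* k := f.comp (iterateFrobenius K 2 i)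

theorem frk_apply (i : ℕ) (a : K) : frk f i a = f (a ^ 2 ^ i) := rfl

theorem frk_succ (i : ℕ) (a : K) : (φk k) (frk f i a) = frk f (i + 1) a := by
  rw [φk_apply, frk_apply, frk_apply, ← map_pow, ← pow_mul, ← pow_succ]

theorem frk_zero (a : K) : frk f 0 a = f a := by rw [frk_apply, pow_zero, pow_one]

theorem mapk_fr (i : ℕ) (g : SL(2, K)) :
    Matrix.SpecialLinearGroup.map (φk k) (Matrix.SpecialLinearGroup.map (frk f i) g) =
      Matrix.SpecialLinearGroup.map (frk f (i + 1)) g := by
  apply Subtype.ext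
  ext a b
  exact frk_succ f i _

theorem frk_card [Fintype K] {m : ℕ} (hK : Fintype.card K = 2 ^ m) : frk f m = frk f 0 := by
  ext a
  rw [frk_apply, frk_zero, ← hK, FiniteField.pow_card]

/-- the diagonal map -/
noncomputable def dgk (m : ℕ) : SL(2, K) →* (Fin m → SL(2, k)) :=
  { toFun := fun g i => Matrix.SpecialLinearGroup.map (frk f i) g
    map_one' := by funext i; exact map_one _
    map_mul' := fun a b => by funext i; exact map_mul _ _ _ }

theorem dgk_apply (m : ℕ) (g : SL(2, K)) (i : Fin m) : dgk f m g i = Matrix.SpecialLinearGroup.map (frk f i) g := rfl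

/-- the image of `SL₂(2^m)` -/
noncomputable def uuk {m : ℕ} {r : Fin m → ℕ} (h : Orth r = true) : SL(2, K) →* GL chevE7.Idx k :=
  (Psik h).comp (dgk f m)

/-- **The image of `SL₂(2^m)` is fixed.** -/
theorem uuk_fix [Fintype K] {m : ℕ} [NeZero m] (hK : Fintype.card K = 2 ^ m) {r : Fin m → ℕ} (h : Orth r = true)
    {w : List ℕ} (hw : ∀ i ∈ w, i < chevE7.rank) (hc : CycB w r (fun i => i + 1) = true) (g : SL(2, K)) :
    sgk k w (uuk f h g) = uuk f h g := by
  have e1 := sgk_Psik (prev := fun i => i - 1) hw h hc (fun i => by simp) (fun i => by simp) (dgk f m g)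
  have e2 : (fun i => Matrix.SpecialLinearGroup.map (φk k) (dgk f m g (i - 1))) = dgk f m g := by
    funext i
    rw [dgk_apply, dgk_apply, mapk_fr]
    by_cases hi : i = 0
    · subst hi
      have h1 : ((0 - 1 : Fin m) : ℕ) + 1 = m := by
        have hm : 0 < m := Nat.pos_of_ne_zero (NeZero.ne m)
        obtain ⟨k, rfl⟩ : ∃ k, m = k + 1 := ⟨m - 1, by omega⟩
        have h2 : ((0 - 1 : Fin (k + 1)) : ℕ) = k := by rw [zero_sub]; exact Fin.coe_neg_one
        rw [h2]
      rw [h1, frk_card f hK]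
      rfl
    · have h1 : ((i - 1 : Fin m) : ℕ) + 1 = i := by
        have := Fin.val_sub_one_of_ne_zero hi
        have h2 : (i : ℕ) ≠ 0 := fun h => hi (Fin.ext (by simpa using h))
        omega
      rw [h1]
  rw [e2] at e1
  exact e1

end Diag

section Genk

variable {k : Type u} [Field k] [CharP k 2] {m : ℕ} {r : Fin m → ℕ}

theorem Psik_mem_of (h : Orth r = true) {x : Fin m → SL(2, k)} (S : Subgroup (GL chevE7.Idx k))
    (hS : ∀ i, psi hE7 k (r i) (x i) ∈ S) : Psik h x ∈ S := by
  unfold Psik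
  rw [MonoidHom.noncommPiCoprod_apply]
  exact Subgroup.noncommProd_mem _ _ fun i _ => hS i

variable {K : Type v} [Field K] [CharP K 2] (f : K →+* k)

/-- Nontriviality, by the action on a root element. -/
theorem uuk_up_ne [NeZero m] (h : Orth r = true) (hr : ∀ i, r i < 126) {s c : ℕ}
    (hs : okB chevE7 (r 0) s [(c, 1, 1)] = true) (hc : c < 126) (ho : ∀ i, i ≠ 0 → okB chevE7 (r i) s [] = true) :
    uuk f h (up 1) ≠ 1 := by
  intro h1
  let x : Fin m → SL(2, k) := dgk f m (up 1)
  have hx : ∀ i, x i = up 1 := by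
    intro i
    show Matrix.SpecialLinearGroup.map (frk f i) (up 1) = up 1
    rw [map_up, map_one]
  have h2 : x = Pi.mulSingle 0 (up 1) * (x * (Pi.mulSingle 0 (up 1))⁻¹) := by
    funext i
    rw [Pi.mul_apply, Pi.mul_apply, Pi.inv_apply]
    by_cases hi : i = 0
    · subst hi
      rw [Pi.mulSingle_eq_same, hx]
      group
    · rw [Pi.mulSingle_eq_of_ne hi]
      group
  have h3 : Psik h x = xG hE7 (r 0) 1 * Psik h (x * (Pi.mulSingle 0 (up 1))⁻¹) := by
    conv_lhs => rw [h2]
    rw [map_mul, Psik_single, psi_up hE7 (show r 0 < chevE7.nroots from hr 0)]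
  have h4 : Psik h (x * (Pi.mulSingle 0 (up 1))⁻¹) ∈ Subgroup.centralizer {xG hE7 s (1 : k)} := by
    refine Psik_mem_of h _ fun i => ?_
    rw [Subgroup.mem_centralizer_singleton_iff]
    by_cases hi : i = 0
    · subst hi
      rw [Pi.mul_apply, Pi.inv_apply, Pi.mulSingle_eq_same, hx, mul_inv_cancel, map_one, one_mul, mul_one]
    · rw [Pi.mul_apply, Pi.inv_apply, Pi.mulSingle_eq_of_ne hi, hx, inv_one, mul_one,
        psi_up hE7 (show r i < chevE7.nroots from hr i)]
      exact (comm_of hE7 (ho i hi) 1 1).eq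
  have h5 : Psik h x = 1 := h1
  rw [h3] at h5
  have h6 : Commute (xG hE7 (r 0) (1 : k)) (xG hE7 s 1) := by
    have h7 : xG hE7 (r 0) (1 : k) = (Psik h (x * (Pi.mulSingle 0 (up 1))⁻¹))⁻¹ := eq_inv_of_mul_eq_one_left h5
    rw [h7]
    exact (show Commute _ _ from Subgroup.mem_centralizer_singleton_iff.1 h4).inv_left
  have h8 := rel (F := k) hE7 hs 1 1
  rw [List.map_cons, List.map_nil, List.prod_cons, List.prod_nil, mul_one, h6.eq] at h8
  have h9 : xG hE7 c ((1 : k) ^ 1 * 1 ^ 1) = 1 := by
    have := mul_left_cancel (a := xG hE7 s (1 : k) * xG hE7 (r 0) 1) (b := 1) (c := xG hE7 c ((1 : k) ^ 1 * 1 ^ 1))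
      (by rw [mul_one]; exact h8)
    exact this.symm
  rw [xG_eq_one_iff hE7 (show c < chevE7.nroots from hc)] at h9
  simp at h9

theorem uuk_injective [Fintype K] (h4 : 4 ≤ Fintype.card K) (h : Orth r = true) (hne : uuk f h (up 1) ≠ 1) :
    Function.Injective (uuk f h) := by
  have hs : IsSimpleGroup SL(2, K) := H320.Kill.simple_sl (CharTwo.two_eq_zero) (by rwa [Nat.card_eq_fintype_card])
  rw [← MonoidHom.ker_eq_bot_iff]
  rcases hs.eq_bot_or_eq_top_of_normal _ (MonoidHom.normal_ker (uuk f h)) with h1 | h1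
  · exact h1
  · exact absurd (MonoidHom.mem_ker.1 (h1 ▸ Subgroup.mem_top (up 1))) hne

end Genk

end Cfsg.Agent.R2.E72T

private theorem dce_f634b446f51b : _root_.True := by
  try have : _root_.True := by simp only [_root_.Cfsg.Agent.R2.E72T.Psik.eq_1]
  exact _root_.True.intro
end
end
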